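import Cfsg.Agent.Lib.M11Local.Setup

/-!
A simple group of order 7920: the columns of the character table at elements of order five and eleven, and integer
columns at the involutions.
-/

set_option linter.unusedSectionVars false
set_option linter.style.haveILetI false

namespace Cfsg.Agent.M11Local

open Cfsg Cfsg.Agent.Char Cfsg.Agent.Blocks

open scoped ComplexConjugate

universe u

variable {G : Type u} [Group G] [Fintype G] [IsSimpleGroup G] (hG : Nat.card G = 7920)

/-- The degrees. -/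
def degs : List ℕ := [1, 10, 10, 10, 11, 16, 16, 44, 45, 55]

theorem sum_ten {M : Type*} [AddCommMonoid M] (f : Fin 10 → M) :
    ∑ i, f i = f 0 + f 1 + f 2 + f 3 + f 4 + f 5 + f 6 + f 7 + f 8 + f 9 := by
  simp [Fin.sum_univ_succ, add_assoc]

variable {e : Fin 10 ≃ IrrCharacter G} (he : ∀ i, charDegree (e i : G → ℂ) = degs.getD i 0)

include hG he

theorem apply_one (i : Fin 10) : (e i : G → ℂ) 1 = ((degs.getD i 0 : ℕ) : ℂ) := by
  rw [irr_one_eq_charDegree, he]

theorem eq_principal : e 0 = principal G :=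
  DefOne.Order7920.eq_principal_of_deg_one (not_prime hG) (by rw [he]; rfl)

theorem ne_principal {i : Fin 10} (hi : i ≠ 0) : e i ≠ principal G := fun h =>
  hi (e.injective (h.trans (eq_principal hG he).symm))

theorem sum_irr (f : IrrCharacter G → ℂ) : ∑ χ, f χ = ∑ i, f (e i) := (e.sum_comp f).symm

/-- The column at an element of order five. -/
theorem column_five {y : G} (hy : orderOf y = 5) :
    (e 0 : G → ℂ) y = 1 ∧ (e 1 : G → ℂ) y = 0 ∧ (e 2 : G → ℂ) y = 0 ∧ (e 3 : G → ℂ) y = 0 ∧
    (e 4 : G → ℂ) y = 1 ∧ (e 5 : G → ℂ) y = 1 ∧ (e 6 : G → ℂ) y = 1 ∧ (e 7 : G → ℂ) y = -1 ∧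
    (e 8 : G → ℂ) y = 0 ∧ (e 9 : G → ℂ) y = 0 := by
  have hval : ∀ i, ∃ v : ℤ, (e i : G → ℂ) y = v ∧ (5 : ℤ) ∣ v - (degs.getD i 0 : ℕ) := by
    intro i
    have hχ := irr_isCharacter (e i)
    have hreal : conj ((e i : G → ℂ) y) = (e i : G → ℂ) y := by
      rw [← IsCharacter.inv hχ, ← class_eq hχ (five_real hG hy)]
    obtain ⟨m, hm⟩ := two_class_sum hχ hy (by norm_num) (apply_one hG he i)
      (fun j h0 h5 => Or.inl (five_classes hG hy j h0 h5))
    rw [hreal] at hm
    obtain ⟨n, hn, hn'⟩ := int_of_eq (IsCharacter.isIntegral hχ y) (k := 4)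
      (a := 5 * m - (degs.getD i 0 : ℕ)) (by norm_num) (by push_cast at hm ⊢; linear_combination hm / 2)
    exact ⟨n, hn, ⟨n - m, by push_cast at hn'; linarith⟩⟩
  choose v hv hd using hval
  have horth := column_orth_of_isConj (IsConj.refl y)
  rw [centralizer_five hG hy, sum_irr hG he, sum_ten] at horth
  simp only [hv, map_intCast] at horth
  norm_cast at horth
  have one : ∀ i : Fin 10, degs.getD i 0 % 5 ≠ 0 → 1 ≤ v i * v i := by
    intro i hi
    have hne : v i ≠ 0 := fun h => by
      have h' := hd i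
      rw [h] at h'
      omega
    nlinarith [mul_self_pos.2 hne]
  have h0 := one 0 (by decide)
  have h4 := one 4 (by decide)
  have h5 := one 5 (by decide)
  have h6 := one 6 (by decide)
  have h7 := one 7 (by decide)
  have n1 := mul_self_nonneg (v 1)
  have n2 := mul_self_nonneg (v 2)
  have n3 := mul_self_nonneg (v 3)
  have n8 := mul_self_nonneg (v 8)
  have n9 := mul_self_nonneg (v 9)
  have z : ∀ i, v i * v i = 0 → (e i : G → ℂ) y = 0 := fun i h => by
    rw [hv, mul_self_eq_zero.1 h, Int.cast_zero]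
  have u : ∀ i, v i * v i = 1 → (5 : ℤ) ∣ 1 - (degs.getD i 0 : ℕ) → (e i : G → ℂ) y = 1 := fun i h h' => by
    have := hd i
    rcases mul_self_eq_one_iff.1 h with e1 | e1
    · rw [hv, e1, Int.cast_one]
    · rw [e1] at this; omega
  refine ⟨u 0 (by linarith) (by decide), z 1 (by linarith), z 2 (by linarith), z 3 (by linarith),
    u 4 (by linarith) (by decide), u 5 (by linarith) (by decide), u 6 (by linarith) (by decide), ?_,
    z 8 (by linarith), z 9 (by linarith)⟩
  have h := hd 7
  rw [hv]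
  rcases mul_self_eq_one_iff.1 (show v 7 * v 7 = 1 by linarith) with e1 | e1
  · rw [e1] at h; exact absurd h (by decide)
  · rw [e1, Int.cast_neg, Int.cast_one]

/-- The column at an element of order eleven. -/
theorem column_eleven {y : G} (hy : orderOf y = 11) :
    (e 0 : G → ℂ) y = 1 ∧ (e 1 : G → ℂ) y = -1 ∧ (e 2 : G → ℂ) y = -1 ∧ (e 3 : G → ℂ) y = -1 ∧
    (e 4 : G → ℂ) y = 0 ∧ (e 5 : G → ℂ) y + conj ((e 5 : G → ℂ) y) = -1 ∧
    (e 6 : G → ℂ) y + conj ((e 6 : G → ℂ) y) = -1 ∧ (e 7 : G → ℂ) y = 0 ∧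
    (e 8 : G → ℂ) y = 1 ∧ (e 9 : G → ℂ) y = 0 := by
  have hval : ∀ i, ∃ w q : ℤ, (e i : G → ℂ) y + conj ((e i : G → ℂ) y) = w ∧
      (e i : G → ℂ) y * conj ((e i : G → ℂ) y) = q ∧ (11 : ℤ) ∣ 5 * w + (degs.getD i 0 : ℕ) ∧
      (11 : ℤ) ∣ 10 * q + ((degs.getD i 0 : ℕ) : ℤ) ^ 2 ∧ w * w ≤ 4 * q ∧ 0 ≤ q := by
    intro i
    have hχ := irr_isCharacter (e i)
    set d := degs.getD i 0
    obtain ⟨m, hm⟩ := two_class_sum hχ hy (by norm_num) (apply_one hG he i) (eleven_classes hG hy)
    obtain ⟨w, hw, hw'⟩ := int_of_eq ((IsCharacter.isIntegral hχ y).add (IsCharacter.isIntegral (IsCharacter.conj hχ) y))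
      (k := 5) (a := 11 * m - (d : ℕ)) (by norm_num) (by push_cast at hm ⊢; linear_combination hm / 2)
    obtain ⟨m', hm'⟩ := two_class_sum (d := d * d) (IsCharacter.mul hχ (IsCharacter.conj hχ)) hy (by norm_num)
      (by
        show (e i : G → ℂ) 1 * conj ((e i : G → ℂ) 1) = _
        rw [apply_one hG he i, map_natCast, Nat.cast_mul]) (eleven_classes hG hy)
    simp only [Pi.mul_apply, map_mul, Complex.conj_conj] at hm'
    obtain ⟨q, hq, hq'⟩ := int_of_eq ((IsCharacter.isIntegral hχ y).mul (IsCharacter.isIntegral (IsCharacter.conj hχ) y))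
      (k := 10) (a := 11 * m' - (d * d : ℕ)) (by norm_num) (by push_cast at hm' ⊢; linear_combination hm' / 2)
    refine ⟨w, q, hw, hq, ⟨m, by push_cast at hw'; linarith⟩, ⟨m', ?_⟩, ?_, ?_⟩
    · push_cast at hq'; linear_combination hq'
    · rw [Complex.add_conj] at hw
      rw [Complex.mul_conj, ← Complex.ofReal_intCast, Complex.ofReal_inj, Complex.normSq_apply] at hq
      have hw2 : 2 * ((e i : G → ℂ) y).re = (w : ℝ) := by exact_mod_cast hw
      have h : (w : ℝ) * w ≤ 4 * q := by
        rw [← hw2, ← hq]; nlinarith [mul_self_nonneg ((e i : G → ℂ) y).im]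
      exact_mod_cast h
    · rw [Complex.mul_conj, ← Complex.ofReal_intCast, Complex.ofReal_inj] at hq
      exact_mod_cast hq ▸ Complex.normSq_nonneg _
  choose w q hw hq hdw hdq hwq hq0 using hval
  have horth := column_orth_of_isConj (IsConj.refl y)
  rw [centralizer_eleven hG hy, sum_irr hG he, sum_ten] at horth
  simp only [hq] at horth
  norm_cast at horth
  have big : ∀ (i : Fin 10), (degs.getD i 0 = 1 ∨ degs.getD i 0 = 10 ∨ degs.getD i 0 = 45) → 1 ≤ q i := by
    intro i hi
    by_contra hc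
    have hq1 : q i = 0 := by have := hq0 i; omega
    have hw1 : w i = 0 := mul_self_eq_zero.1 (le_antisymm (by have := hwq i; linarith) (mul_self_nonneg _))
    have h := hdw i
    rw [hw1] at h
    rcases hi with h1 | h1 | h1 <;> rw [h1] at h <;> exact absurd h (by decide)
  have h0 := big 0 (Or.inl rfl)
  have h1 := big 1 (Or.inr (Or.inl rfl))
  have h2 := big 2 (Or.inr (Or.inl rfl))
  have h3 := big 3 (Or.inr (Or.inl rfl))
  have h8 := big 8 (Or.inr (Or.inr rfl))
  have h5 : 3 ≤ q 5 := by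
    have h := hdq 5
    rw [show degs.getD ((5 : Fin 10) : ℕ) 0 = 16 from rfl] at h
    have := hq0 5
    norm_num at h
    omega
  have h6 : 3 ≤ q 6 := by
    have h := hdq 6
    rw [show degs.getD ((6 : Fin 10) : ℕ) 0 = 16 from rfl] at h
    have := hq0 6
    norm_num at h
    omega
  have n4 := hq0 4
  have n7 := hq0 7
  have n9 := hq0 9
  have zero : ∀ i, q i = 0 → (e i : G → ℂ) y = 0 := fun i h => by
    have := hq i
    rw [h, Int.cast_zero, Complex.mul_conj, Complex.ofReal_eq_zero] at this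
    exact Complex.normSq_eq_zero.1 this
  have unit : ∀ (i : Fin 10) (s : ℤ), q i = 1 → s * s = 1 → (11 : ℤ) ∣ 10 * s + (degs.getD i 0 : ℕ) →
      (e i : G → ℂ) y = s := fun i s h hs hd => by
    have hsq := hwq i
    rw [h] at hsq
    have hb : -2 ≤ w i ∧ w i ≤ 2 := ⟨by nlinarith, by nlinarith⟩
    have h' := hdw i
    have hw2 : w i = 2 * s := by
      rcases mul_self_eq_one_iff.1 hs with rfl | rfl <;> omega
    have hz : ((e i : G → ℂ) y - s) * conj ((e i : G → ℂ) y - s) = 0 := by
      have a := hq i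
      have b := hw i
      rw [h, Int.cast_one] at a
      rw [hw2] at b
      push_cast at b
      have c : (s : ℂ) * s = 1 := by exact_mod_cast hs
      rw [map_sub, map_intCast]
      linear_combination a - (s : ℂ) * b - c
    rw [Complex.mul_conj, Complex.ofReal_eq_zero, Complex.normSq_eq_zero, sub_eq_zero] at hz
    exact hz
  have six : ∀ i : Fin 10, degs.getD i 0 = 16 → q i = 3 → (e i : G → ℂ) y + conj ((e i : G → ℂ) y) = -1 := fun i hd h => by
    have hsq := hwq i
    rw [h] at hsq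
    have hb : -3 ≤ w i ∧ w i ≤ 3 := ⟨by nlinarith, by nlinarith⟩
    have h' := hdw i
    rw [hd] at h'
    rw [hw, show w i = -1 by omega, Int.cast_neg, Int.cast_one]
  refine ⟨?_, ?_, ?_, ?_, zero 4 (by omega), six 5 rfl (by omega), six 6 rfl (by omega), zero 7 (by omega), ?_,
    zero 9 (by omega)⟩
  · simpa using unit 0 1 (by omega) rfl (by decide)
  · simpa using unit 1 (-1) (by omega) rfl (by decide)
  · simpa using unit 2 (-1) (by omega) rfl (by decide)
  · simpa using unit 3 (-1) (by omega) rfl (by decide)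
  · simpa using unit 8 1 (by omega) rfl (by decide)

/-- Integer values at an involution, with parity and bound. -/
theorem column_involution {t : G} (ht : orderOf t = 2) :
    ∃ v : Fin 10 → ℤ, (∀ i, (e i : G → ℂ) t = v i) ∧ v 0 = 1 ∧
      ∀ i, i ≠ 0 → (2 : ℤ) ∣ v i - (degs.getD i 0 : ℕ) ∧ -(degs.getD i 0 : ℕ) < v i ∧ v i < (degs.getD i 0 : ℕ) := by
  have hval := fun i => involution_value (irr_isCharacter (e i)) ht (apply_one hG he i)
  choose v hv hpar using hval
  refine ⟨v, hv, ?_, fun i hi => ⟨hpar i, ?_⟩⟩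
  · have := hv 0
    rw [eq_principal hG he] at this
    have h1 : (1 : ℂ) = (v 0 : ℂ) := this
    exact_mod_cast h1.symm
  · have h1 := IsIrrCharacter.norm_le (e i).2 (apply_one hG he i) t
    have h2 := DefOne.Order7920.norm_ne (not_prime hG) (ne_principal hG he hi) (g := t)
      (fun h => by rw [h, orderOf_one] at ht; omega)
    rw [he] at h2
    have h := lt_of_le_of_ne h1 h2
    rw [hv, Complex.norm_intCast] at h
    have h' : |v i| < ((degs.getD i 0 : ℕ) : ℤ) := by exact_mod_cast h
    exact abs_lt.1 h'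

end Cfsg.Agent.M11Local
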