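import Cfsg.Agent.Lib.M11Local.Columns

/-!
A simple group of order 7920: one class of involutions, with centralisers of order 48.
-/

set_option linter.unusedSectionVars false
set_option linter.style.haveILetI false

namespace Cfsg.Agent.M11Local

open Cfsg Cfsg.Agent.Char Cfsg.Agent.Blocks

open scoped ComplexConjugate

universe u

/-- The possible values of the three characters of degree ten. -/
theorem tens_check : ∀ i j k : Fin 9, ∀ a b c f : ℤ, a = 2 * (i : ℕ) - 8 → b = 2 * (j : ℕ) - 8 →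
    c = 2 * (k : ℕ) - 8 → f = a + b + c - 1 → 90 - 9 * (a * a + b * b + c * c) + 2 * (f * f) = 0 →
      a + b + c = -2 ∧ a * a + b * b + c * c = 12 := by
  have h : ∀ i j k : Fin 9,
      (90 - 9 * ((2 * (i : ℕ) - 8 : ℤ) * (2 * (i : ℕ) - 8) + (2 * (j : ℕ) - 8 : ℤ) * (2 * (j : ℕ) - 8) +
        (2 * (k : ℕ) - 8 : ℤ) * (2 * (k : ℕ) - 8)) +
        2 * (((2 * (i : ℕ) - 8 : ℤ) + (2 * (j : ℕ) - 8) + (2 * (k : ℕ) - 8) - 1) *
          ((2 * (i : ℕ) - 8 : ℤ) + (2 * (j : ℕ) - 8) + (2 * (k : ℕ) - 8) - 1)) = 0) →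
      ((2 * (i : ℕ) - 8 : ℤ) + (2 * (j : ℕ) - 8) + (2 * (k : ℕ) - 8) = -2 ∧
        (2 * (i : ℕ) - 8 : ℤ) * (2 * (i : ℕ) - 8) + (2 * (j : ℕ) - 8 : ℤ) * (2 * (j : ℕ) - 8) +
          (2 * (k : ℕ) - 8 : ℤ) * (2 * (k : ℕ) - 8) = 12) := by
    decide +kernel
  intro i j k a b c f ha hb hc hf he
  subst ha hb hc hf
  exact h i j k he

variable {G : Type u} [Group G] [Fintype G] [IsSimpleGroup G] (hG : Nat.card G = 7920)

variable {e : Fin 10 ≃ IrrCharacter G} (he : ∀ i, charDegree (e i : G → ℂ) = degs.getD i 0)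

include hG

theorem no_product_eleven {g k y : G} (hg : orderOf g = 2) (hk : orderOf k = 2) (hy : orderOf y = 11) :
    ∀ a b, IsConj g a → IsConj k b → ¬ IsConj (a * b) y := by
  intro a b ha hb hab
  have sq : ∀ {g a : G}, orderOf g = 2 → IsConj g a → a * a = 1 := fun {g a} hg h => by
    obtain ⟨c, rfl⟩ := isConj_iff.1 h
    rw [show c * g * c⁻¹ * (c * g * c⁻¹) = c * (g * g) * c⁻¹ by group, ← pow_two, ← hg, pow_orderOf_eq_one]
    group
  have hA := sq hg ha
  have hB := sq hk hb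
  have hz : orderOf (a * b) = 11 := by
    obtain ⟨c, hc⟩ := isConj_iff.1 hab
    rw [← hy, ← hc]
    exact (MulEquiv.orderOf_eq (MulAut.conj c) _).symm
  refine eleven_not_real hG hz (isConj_iff.2 ⟨a, ?_⟩)
  rw [mul_inv_rev, inv_eq_of_mul_eq_one_left hA, inv_eq_of_mul_eq_one_left hB, ← mul_assoc, hA, one_mul]

theorem not_conj_of_orderOf {g h : G} (hgh : orderOf g ≠ orderOf h) : ¬ IsConj g h := fun hc => by
  obtain ⟨c, rfl⟩ := isConj_iff.1 hc
  exact hgh (MulEquiv.orderOf_eq (MulAut.conj c) g).symm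

include he

/-- The linear relations satisfied by an integer column at an involution. -/
theorem column_relations {t : G} (ht : orderOf t = 2) {v : Fin 10 → ℤ} (hv : ∀ i, (e i : G → ℂ) t = v i)
    (h0 : v 0 = 1) {y z : G} (hy : orderOf y = 11) (hz : orderOf z = 5) :
    1 + v 4 + v 5 + v 6 - v 7 = 0 ∧ 2 * (1 - (v 1 + v 2 + v 3) + v 8) - (v 5 + v 6) = 0 ∧
    1 + 10 * (v 1 + v 2 + v 3) + 11 * v 4 + 16 * (v 5 + v 6) + 44 * v 7 + 45 * v 8 + 55 * v 9 = 0 ∧
    (Nat.card (Subgroup.centralizer ({t} : Set G)) : ℤ) = 1 + (v 1 * v 1 + v 2 * v 2 + v 3 * v 3) + v 4 * v 4 +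
      v 5 * v 5 + v 6 * v 6 + v 7 * v 7 + v 8 * v 8 + v 9 * v 9 := by
  obtain ⟨a0, a1, a2, a3, a4, a5, a6, a7, a8, a9⟩ := column_eleven hG he hy
  obtain ⟨b0, b1, b2, b3, b4, b5, b6, b7, b8, b9⟩ := column_five hG he hz
  refine ⟨?_, ?_, ?_, ?_⟩
  · have h := column_orth_of_not_isConj (not_conj_of_orderOf hG (g := t) (h := z) (by rw [ht, hz]; norm_num))
    rw [sum_irr hG he, sum_ten] at h
    simp only [hv, b0, b1, b2, b3, b4, b5, b6, b7, b8, b9, h0, map_one, map_zero, map_neg, mul_one, mul_zero,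
      mul_neg, add_zero] at h
    have h' : ((1 + v 4 + v 5 + v 6 - v 7 : ℤ) : ℂ) = 0 := by push_cast; linear_combination h
    exact_mod_cast h'
  · have h := column_orth_of_not_isConj (not_conj_of_orderOf hG (g := t) (h := y) (by rw [ht, hy]; norm_num))
    rw [sum_irr hG he, sum_ten] at h
    simp only [hv, a0, a1, a2, a3, a4, a7, a8, a9, h0, map_one, map_zero, map_neg, mul_one, mul_zero,
      mul_neg, add_zero] at h
    have hc := congrArg conj h
    simp [Complex.conj_conj] at hc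
    have h' : ((2 * (1 - (v 1 + v 2 + v 3) + v 8) - (v 5 + v 6) : ℤ) : ℂ) = 0 := by
      push_cast; push_cast at h hc
      linear_combination h + hc - (v 5 : ℂ) * a5 - (v 6 : ℂ) * a6
    exact_mod_cast h'
  · have h := column_orth_of_not_isConj (not_conj_of_orderOf hG (g := t) (h := (1 : G)) (by rw [ht, orderOf_one]; norm_num))
    rw [sum_irr hG he, sum_ten] at h
    simp only [hv, apply_one hG he, h0, map_natCast] at h
    have h' : ((1 + 10 * (v 1 + v 2 + v 3) + 11 * v 4 + 16 * (v 5 + v 6) + 44 * v 7 + 45 * v 8 + 55 * v 9 : ℤ) : ℂ) = 0 := by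
      norm_num [degs] at h ⊢
      linear_combination h
    exact_mod_cast h'
  · have h := column_orth_of_isConj (IsConj.refl t)
    rw [sum_irr hG he, sum_ten] at h
    simp only [hv, map_intCast, h0, Int.cast_one, map_one, mul_one] at h
    have h' : ((Nat.card (Subgroup.centralizer ({t} : Set G)) : ℤ) : ℂ) =
        ((1 + (v 1 * v 1 + v 2 * v 2 + v 3 * v 3) + v 4 * v 4 + v 5 * v 5 + v 6 * v 6 + v 7 * v 7 + v 8 * v 8 +
          v 9 * v 9 : ℤ) : ℂ) := by push_cast; linear_combination -h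
    exact_mod_cast h'

/-- Characters of degree sixteen vanish at an involution central in a Sylow subgroup. -/
theorem sixteen_vanish {t : G} (ht : orderOf t = 2) (hC : 16 ∣ Nat.card (Subgroup.centralizer ({t} : Set G)))
    {v : Fin 10 → ℤ} (hv : ∀ i, (e i : G → ℂ) t = v i)
    (hb : ∀ i, i ≠ 0 → (2 : ℤ) ∣ v i - (degs.getD i 0 : ℕ) ∧ -(degs.getD i 0 : ℕ) < v i ∧ v i < (degs.getD i 0 : ℕ))
    {i : Fin 10} (hi : degs.getD i 0 = 16) : v i = 0 := by
  have hne : i ≠ 0 := by rintro rfl; exact absurd hi (by decide)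
  have h := DefectZero.isIntegral_div_of_centralizer (e i) (g := t) (e := 16) (by norm_num) hC
    (by rw [he, hi, hG]; norm_num)
  obtain ⟨n, hn⟩ := exists_int_of_isIntegral (q := ((v i : ℤ) : ℚ) / 16) (by rw [hv] at h; push_cast at h ⊢; exact h)
  have e16 : v i = n * 16 := by
    have : ((v i : ℤ) : ℚ) = n * 16 := by rw [← hn]; ring
    exact_mod_cast this
  obtain ⟨-, h1, h3⟩ := hb i hne
  rw [hi] at h1 h3
  omega

/-- An involution central in a Sylow subgroup. -/
theorem central_involution {t : G} (ht : orderOf t = 2) (hC : 16 ∣ Nat.card (Subgroup.centralizer ({t} : Set G)))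
    {v : Fin 10 → ℤ} (hv : ∀ i, (e i : G → ℂ) t = v i) (h0 : v 0 = 1)
    (hb : ∀ i, i ≠ 0 → (2 : ℤ) ∣ v i - (degs.getD i 0 : ℕ) ∧ -(degs.getD i 0 : ℕ) < v i ∧ v i < (degs.getD i 0 : ℕ))
    {y z : G} (hy : orderOf y = 11) (hz : orderOf z = 5) :
    Nat.card (Subgroup.centralizer ({t} : Set G)) = 48 ∧ v 4 = 3 ∧ v 5 = 0 ∧ v 6 = 0 ∧ v 7 = 4 ∧ v 8 = -3 ∧ v 9 = -1 := by
  obtain ⟨r1, r2, r3, r4⟩ := column_relations hG he ht hv h0 hy hz
  have v5 := sixteen_vanish hG he ht hC hv hb (i := 5) rfl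
  have v6 := sixteen_vanish hG he ht hC hv hb (i := 6) rfl
  obtain ⟨a0, a1, a2, a3, a4, a5, a6, a7, a8, a9⟩ := column_eleven hG he hy
  have h := structure_zero (no_product_eleven hG ht ht hy)
  rw [sum_irr hG he, sum_ten] at h
  simp only [hv, a0, a1, a2, a3, a4, a7, a8, a9, h0, v5, v6, map_one, map_zero, map_neg, apply_one hG he] at h
  have heq : (90 - 9 * (v 1 * v 1 + v 2 * v 2 + v 3 * v 3) + 2 * (v 8 * v 8) : ℤ) = 0 := by
    have h' : ((90 - 9 * (v 1 * v 1 + v 2 * v 2 + v 3 * v 3) + 2 * (v 8 * v 8) : ℤ) : ℂ) = 0 := by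
      norm_num [degs] at h ⊢
      linear_combination 90 * h
    exact_mod_cast h'
  have ten : ∀ i : Fin 10, degs.getD i 0 = 10 → ∃ k : Fin 9, v i = 2 * (k : ℕ) - 8 := fun i hi => by
    obtain ⟨h2, h1, h3⟩ := hb i (by rintro rfl; exact absurd hi (by decide))
    rw [hi] at h1 h2 h3
    exact ⟨⟨((v i + 8) / 2).toNat, by omega⟩, by simp only; omega⟩
  obtain ⟨i, hi⟩ := ten 1 rfl
  obtain ⟨j, hj⟩ := ten 2 rfl
  obtain ⟨k, hk⟩ := ten 3 rfl
  obtain ⟨hs, hQ⟩ := tens_check i j k (v 1) (v 2) (v 3) (v 8) hi hj hk (by omega) heq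
  have v8 : v 8 = -3 := by omega
  have v7 : v 7 = 1 + v 4 := by omega
  have v9 : v 9 = 2 - v 4 := by omega
  rw [hQ, v5, v6, v7, v8, v9] at r4
  obtain ⟨p4, l4, u4⟩ := hb 4 (by decide)
  rw [show degs.getD ((4 : Fin 10) : ℕ) 0 = 11 from rfl] at p4 l4 u4
  have hc : Nat.card (Subgroup.centralizer ({t} : Set G)) = 16 ∨ Nat.card (Subgroup.centralizer ({t} : Set G)) = 48 ∨
      Nat.card (Subgroup.centralizer ({t} : Set G)) = 144 := by
    obtain ⟨m, hm⟩ := hC
    have h9 : m ∣ 9 := Nat.dvd_of_mul_dvd_mul_left (by norm_num : 0 < 16) (hm ▸ card_centralizer_dvd hG ht)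
    have := Nat.le_of_dvd (by norm_num) h9
    interval_cases m <;> omega
  have hd : v 4 = 3 := by
    generalize v 4 = d at r4 p4 l4 u4
    generalize Nat.card (Subgroup.centralizer ({t} : Set G)) = c at r4 hc
    interval_cases d <;> norm_num at r4 p4 <;> omega
  refine ⟨?_, hd, v5, v6, by omega, v8, by omega⟩
  rw [hd] at r4
  omega

omit he in
/-- There is an involution with centraliser of order 48 to which all involutions are conjugate. -/
theorem exists_central_involution :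
    ∃ t₀ : G, Nat.card (Subgroup.centralizer ({t₀} : Set G)) = 48 ∧ ∀ s : G, orderOf s = 2 → IsConj t₀ s := by
  classical
  obtain ⟨e, he⟩ := exists_table hG
  replace he : ∀ i, charDegree (e i : G → ℂ) = degs.getD i 0 := he
  obtain ⟨y, hy⟩ : ∃ y : G, orderOf y = 11 := by
    haveI : Fact (Nat.Prime 11) := ⟨by norm_num⟩
    exact exists_prime_orderOf_dvd_card' 11 (by rw [hG]; norm_num)
  obtain ⟨z, hz⟩ : ∃ z : G, orderOf z = 5 := by
    haveI : Fact (Nat.Prime 5) := ⟨by norm_num⟩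
    exact exists_prime_orderOf_dvd_card' 5 (by rw [hG]; norm_num)
  haveI : Fact (Nat.Prime 2) := ⟨Nat.prime_two⟩
  obtain ⟨S⟩ : Nonempty (Sylow 2 G) := inferInstance
  have hS : Nat.card S = 16 := by
    rw [Sylow.card_eq_multiplicity, hG, show (7920 : ℕ) = 2 ^ 4 * 495 by norm_num,
      Nat.factorization_mul (by norm_num) (by norm_num), Finsupp.add_apply, Nat.prime_two.factorization_pow,
      Finsupp.single_eq_same, Nat.factorization_eq_zero_of_not_dvd (by norm_num : ¬ 2 ∣ 495)]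
    norm_num
  haveI : Nontrivial S := Finite.one_lt_card_iff_nontrivial.1 (by rw [hS]; norm_num)
  have hSp : IsPGroup 2 S := S.2
  haveI := hSp.center_nontrivial
  obtain ⟨n, hn, hcard⟩ := (hSp.to_subgroup (Subgroup.center S)).nontrivial_iff_card.1 inferInstance
  obtain ⟨t, ht⟩ := exists_prime_orderOf_dvd_card' 2 (show 2 ∣ Nat.card (Subgroup.center S) by
    rw [hcard]; exact dvd_pow_self 2 hn.ne')
  set t₀ : G := ((t : S) : G)
  have ht₀ : orderOf t₀ = 2 := by
    show orderOf ((t : S) : G) = 2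
    rw [Subgroup.orderOf_coe, Subgroup.orderOf_coe, ht]
  have hC : 16 ∣ Nat.card (Subgroup.centralizer ({t₀} : Set G)) := by
    rw [← hS]
    refine Subgroup.card_dvd_of_le fun x hx => ?_
    rw [Subgroup.mem_centralizer_singleton_iff]
    exact congrArg Subtype.val (Subgroup.mem_center_iff.1 t.2 ⟨x, hx⟩)
  obtain ⟨v, hv, hv0, hvb⟩ := column_involution hG he ht₀
  obtain ⟨hc, d4, d5, d6, d7, d8, d9⟩ := central_involution hG he ht₀ hC hv hv0 hvb hy hz
  refine ⟨t₀, hc, fun s hs => ?_⟩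
  by_cases hconj : IsConj t₀ s
  · exact hconj
  exfalso
  obtain ⟨w, hw, hw0, hwb⟩ := column_involution hG he hs
  obtain ⟨r1, r2, r3, r4⟩ := column_relations hG he hs hw hw0 hy hz
  obtain ⟨a0, a1, a2, a3, a4, a5, a6, a7, a8, a9⟩ := column_eleven hG he hy
  obtain ⟨b0, b1, b2, b3, b4, b5, b6, b7, b8, b9⟩ := column_five hG he hz
  obtain ⟨P, hP⟩ : ∃ P : ℤ, w 1 * v 1 + w 2 * v 2 + w 3 * v 3 = P := ⟨_, rfl⟩
  have e1 : 1 + P + 3 * w 4 - 3 * w 8 + 4 * w 7 - w 9 = 0 := by
    have h := column_orth_of_not_isConj (fun h => hconj (h.symm : IsConj t₀ s))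
    rw [sum_irr hG he, sum_ten] at h
    simp only [hw, hv, hw0, hv0, d4, d5, d6, d7, d8, d9, map_intCast] at h
    have h' : ((1 + P + 3 * w 4 - 3 * w 8 + 4 * w 7 - w 9 : ℤ) : ℂ) = 0 := by
      rw [← hP]; push_cast at h ⊢
      linear_combination h
    exact_mod_cast h'
  have e2 : 90 - 9 * P + 2 * (w 8 * -3) = 0 := by
    have h := structure_zero (no_product_eleven hG hs ht₀ hy)
    rw [sum_irr hG he, sum_ten] at h
    simp only [hw, hv, hw0, hv0, d4, d5, d6, d7, d8, d9, a0, a1, a2, a3, a4, a7, a8, a9, map_one, map_zero,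
      map_neg, apply_one hG he] at h
    have h' : ((90 - 9 * P + 2 * (w 8 * -3) : ℤ) : ℂ) = 0 := by
      rw [← hP]; norm_num [degs] at h ⊢
      linear_combination 90 * h
    exact_mod_cast h'
  have e3 : 44 + 4 * (w 4 * 3) - w 7 * 4 = 0 := by
    have h := structure_zero (g := s) (k := t₀) (y := z) fun a b ha hb hab => hconj (by
      have sq : ∀ {g a : G}, orderOf g = 2 → IsConj g a → a * a = 1 := fun {g a} hg h => by
        obtain ⟨c, rfl⟩ := isConj_iff.1 h
        rw [show c * g * c⁻¹ * (c * g * c⁻¹) = c * (g * g) * c⁻¹ by group, ← pow_two, ← hg, pow_orderOf_eq_one]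
        group
      have ho : orderOf (a * b) = 5 := by
        obtain ⟨c, hc⟩ := isConj_iff.1 hab
        rw [← hz, ← hc]
        exact (MulEquiv.orderOf_eq (MulAut.conj c) _).symm
      exact hb.trans ((isConj_of_odd (sq hs ha) (sq ht₀ hb) (by rw [ho]; decide)).symm.trans ha.symm))
    rw [sum_irr hG he, sum_ten] at h
    simp only [hw, hv, hw0, hv0, d4, d5, d6, d7, d8, d9, b0, b1, b2, b3, b4, b5, b6, b7, b8, b9, map_one, map_zero,
      map_neg, apply_one hG he] at h
    have h' : ((44 + 4 * (w 4 * 3) - w 7 * 4 : ℤ) : ℂ) = 0 := by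
      norm_num [degs] at h ⊢
      linear_combination 44 * h
    exact_mod_cast h'
  obtain ⟨p4, l4, u4⟩ := hwb 4 (by decide)
  obtain ⟨p8, l8, u8⟩ := hwb 8 (by decide)
  rw [show degs.getD ((4 : Fin 10) : ℕ) 0 = 11 from rfl] at p4 l4 u4
  rw [show degs.getD ((8 : Fin 10) : ℕ) 0 = 45 from rfl] at p8 l8 u8
  have h4 : w 4 = -5 := by omega
  have h8 : w 8 = -9 := by omega
  have h9 : w 9 = 13 := by omega
  have h7 : w 7 = -4 := by omega
  have hle := Nat.le_of_dvd (by norm_num) (card_centralizer_dvd hG hs)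
  rw [h4, h7, h8, h9] at r4
  have hle' : (Nat.card (Subgroup.centralizer ({s} : Set G)) : ℤ) ≤ 144 := by exact_mod_cast hle
  nlinarith [mul_self_nonneg (w 1), mul_self_nonneg (w 2), mul_self_nonneg (w 3), mul_self_nonneg (w 5),
    mul_self_nonneg (w 6)]

omit he in
/-- The centraliser of an involution has order 48. -/
theorem card_centralizer_involution {s : G} (hs : orderOf s = 2) :
    Nat.card (Subgroup.centralizer ({s} : Set G)) = 48 := by
  obtain ⟨t₀, hc, hconj⟩ := exists_central_involution hG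
  obtain ⟨c, hc'⟩ := isConj_iff.1 (hconj s hs)
  rw [← hc]
  refine (Nat.card_congr (Equiv.subtypeEquiv (MulAut.conj c).toEquiv fun x => ?_)).symm
  simp only [Subgroup.mem_centralizer_singleton_iff, ← hc', MulEquiv.toEquiv_eq_coe, MulEquiv.coe_toEquiv,
    MulAut.conj_apply]
  rw [show c * x * c⁻¹ * (c * t₀ * c⁻¹) = c * (x * t₀) * c⁻¹ by group,
    show c * t₀ * c⁻¹ * (c * x * c⁻¹) = c * (t₀ * x) * c⁻¹ by group, mul_left_inj, mul_right_inj]

omit he in
/-- All involutions are conjugate. -/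
theorem isConj_involution {s t : G} (hs : orderOf s = 2) (ht : orderOf t = 2) : IsConj s t := by
  obtain ⟨t₀, -, h⟩ := exists_central_involution hG
  exact (h s hs).symm.trans (h t ht)

end Cfsg.Agent.M11Local
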