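import Cfsg.Agent.Lib.DefOne.Order7920
import Cfsg.Agent.Lib.Blocks.DefectZeroBound
import Cfsg.Agent.Lib.Char.TICongruence
import Cfsg.Agent.Lib.Golay.SylowSimple

/-!
A simple group of order 7920: elements of order five and eleven and the values of the characters at them.
-/

set_option linter.unusedSectionVars false
set_option linter.style.haveILetI false

namespace Cfsg.Agent.M11Local

open Cfsg Cfsg.Agent.Char Cfsg.Agent.Blocks

open scoped ComplexConjugate

universe u

section Generic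

variable {G : Type u} [Group G] [Fintype G]

theorem pow_sum {χ : G → ℂ} (hχ : IsCharacter G χ) {y : G} {p : ℕ} (hy : orderOf y = p) (hp : p ≠ 0) :
    ∃ m : ℤ, ∑ i ∈ Finset.range p, χ (y ^ i) = (p : ℂ) * m := by
  obtain ⟨m, hm⟩ := IsCharacter.exists_classInner_nat (IsCharacter.restrict hχ (Subgroup.zpowers y))
    (isCharacter_one (G := Subgroup.zpowers y))
  refine ⟨m, ?_⟩
  have hp' : (p : ℂ) ≠ 0 := Nat.cast_ne_zero.2 hp
  rw [Int.cast_natCast, ← hm, classInner, Nat.card_zpowers, hy, ← mul_assoc, mul_inv_cancel₀ hp', one_mul,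
    Finset.sum_range]
  refine Fintype.sum_equiv ((finCongr hy.symm).trans (finEquivZPowers (isOfFinOrder_of_finite y))) _ _ fun i => ?_
  show χ (y ^ (i : ℕ)) = χ (y ^ (i : ℕ)) * conj (1 : ℂ)
  rw [map_one, mul_one]

theorem class_eq {χ : G → ℂ} (hχ : IsCharacter G χ) {g h : G} (hgh : IsConj g h) : χ g = χ h :=
  isClassFunction_iff.1 (IsCharacter.isClassFunction hχ) g h hgh

/-- The trace on a cyclic group whose generators fall into at most two mutually inverse classes. -/
theorem two_class_sum {χ : G → ℂ} (hχ : IsCharacter G χ) {y : G} {p d : ℕ} (hy : orderOf y = p) (hp : p ≠ 0)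
    (hd : χ 1 = d) (hcl : ∀ i, 0 < i → i < p → IsConj y (y ^ i) ∨ IsConj y⁻¹ (y ^ i)) :
    ∃ m : ℤ, ((p : ℂ) - 1) * (χ y + conj (χ y)) = 2 * (p : ℂ) * m - 2 * d := by
  obtain ⟨m, hm⟩ := pow_sum hχ hy hp
  refine ⟨m, ?_⟩
  have hsum : ∑ i ∈ Finset.range p, (χ (y ^ i) + conj (χ (y ^ i))) = (p : ℂ) * m + (p : ℂ) * m := by
    rw [Finset.sum_add_distrib, ← map_sum, hm, map_mul, map_natCast, map_intCast]
  have h1 : ∀ i ∈ (Finset.range p).erase 0, χ (y ^ i) + conj (χ (y ^ i)) = χ y + conj (χ y) := by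
    intro i hi
    obtain ⟨h0, hlt⟩ := Finset.mem_erase.1 hi
    rcases hcl i (Nat.pos_of_ne_zero h0) (Finset.mem_range.1 hlt) with h | h
    · rw [← class_eq hχ h]
    · rw [← class_eq hχ h, IsCharacter.inv hχ, Complex.conj_conj, add_comm]
  rw [← Finset.add_sum_erase _ _ (Finset.mem_range.2 (Nat.pos_of_ne_zero hp)), Finset.sum_congr rfl h1,
    Finset.sum_const, Finset.card_erase_of_mem (Finset.mem_range.2 (Nat.pos_of_ne_zero hp)), Finset.card_range,
    pow_zero, hd, map_natCast, nsmul_eq_mul, Nat.cast_sub (Nat.pos_of_ne_zero hp), Nat.cast_one] at hsum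
  linear_combination hsum

theorem int_of_eq {z : ℂ} (hz : IsIntegral ℤ z) {a : ℤ} {k : ℕ} (hk : k ≠ 0) (h : (k : ℂ) * z = a) :
    ∃ n : ℤ, z = n ∧ (k : ℤ) * n = a := by
  have hk' : (k : ℂ) ≠ 0 := Nat.cast_ne_zero.2 hk
  have hz' : z = (((a : ℚ) / k : ℚ) : ℂ) := by
    push_cast
    rw [eq_div_iff hk', mul_comm]; exact h
  obtain ⟨n, hn⟩ := exists_int_of_isIntegral (q := (a : ℚ) / k) (hz' ▸ hz)
  refine ⟨n, by rw [hz', hn]; push_cast; rfl, ?_⟩
  rw [hz', hn] at h
  exact_mod_cast h

/-- An integer trace at an involution. -/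
theorem involution_value {χ : G → ℂ} (hχ : IsCharacter G χ) {t : G} (ht : orderOf t = 2) {d : ℕ}
    (hd : χ 1 = d) : ∃ v : ℤ, χ t = v ∧ (2 : ℤ) ∣ v - d := by
  obtain ⟨m, hm⟩ := pow_sum hχ ht two_ne_zero
  rw [Finset.sum_range_succ, Finset.sum_range_one, pow_zero, pow_one, hd] at hm
  refine ⟨2 * m - d, ?_, ⟨m - d, by ring⟩⟩
  push_cast at hm ⊢
  linear_combination hm

/-- No product of two elements of the classes in the given class: the weighted sum of values vanishes. -/
theorem structure_zero {g k y : G}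
    (h : ∀ a b, IsConj g a → IsConj k b → ¬ IsConj (a * b) y) :
    ∑ χ : IrrCharacter G, (χ : G → ℂ) g * (χ : G → ℂ) k * conj ((χ : G → ℂ) y) / (χ : G → ℂ) 1 = 0 := by
  have h0 : ∀ a ∈ classFinset g, ∀ b ∈ classFinset k,
      ∑ χ : IrrCharacter G, (χ : G → ℂ) (a * b) * conj ((χ : G → ℂ) y) = 0 := fun a ha b hb =>
    column_orth_of_not_isConj (h a b (mem_classFinset.1 ha) (mem_classFinset.1 hb))
  have h1 : ∑ χ : IrrCharacter G, (∑ a ∈ classFinset g, ∑ b ∈ classFinset k, (χ : G → ℂ) (a * b)) *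
      conj ((χ : G → ℂ) y) = 0 := by
    simp only [Finset.sum_mul]
    rw [Finset.sum_comm]
    refine Finset.sum_eq_zero fun a ha => ?_
    rw [Finset.sum_comm]
    exact Finset.sum_eq_zero fun b hb => h0 a ha b hb
  have hg : ((Subgroup.centralizer ({g} : Set G)).index : ℂ) ≠ 0 :=
    Nat.cast_ne_zero.2 Subgroup.index_ne_zero_of_finite
  have hk : ((Subgroup.centralizer ({k} : Set G)).index : ℂ) ≠ 0 :=
    Nat.cast_ne_zero.2 Subgroup.index_ne_zero_of_finite
  refine mul_left_cancel₀ (mul_ne_zero hg hk) ?_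
  rw [mul_zero, ← h1, Finset.mul_sum]
  refine Finset.sum_congr rfl fun χ _ => ?_
  rw [TICongr.sum_class_mul χ.2]
  ring

/-- Two involutions with a product of odd order are conjugate. -/
theorem isConj_of_odd {a b : G} (ha : a * a = 1) (hb : b * b = 1) (hodd : Odd (orderOf (a * b))) :
    IsConj a b := by
  obtain ⟨j, hj⟩ := hodd
  have hinv : ∀ n : ℕ, a * (a * b) ^ n = ((a * b) ^ n)⁻¹ * a := by
    intro n
    induction n with
    | zero => simp
    | succ n ih =>
      have h : a * (a * b) = (a * b)⁻¹ * a := by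
        rw [mul_inv_rev, inv_eq_of_mul_eq_one_left ha, inv_eq_of_mul_eq_one_left hb, ← mul_assoc, ha, one_mul,
          mul_assoc, ha, mul_one]
      rw [pow_succ', ← mul_assoc, h, mul_assoc, ih, ← mul_assoc, ← mul_inv_rev, ← pow_succ, ← pow_succ']
  refine isConj_iff.2 ⟨(a * b) ^ j, ?_⟩
  have hpow : ((a * b) ^ j) ^ 2 * (a * b) = 1 := by
    rw [← pow_mul, ← pow_succ, mul_comm, ← hj, pow_orderOf_eq_one]
  have h2 : ((a * b) ^ j) ^ 2 = (a * b)⁻¹ := eq_inv_of_mul_eq_one_left hpow
  calc (a * b) ^ j * a * ((a * b) ^ j)⁻¹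
      = (a * b) ^ j * (a * ((a * b) ^ j)⁻¹) := by group
    _ = (a * b) ^ j * ((a * b) ^ j * a) := by
        congr 1
        rw [mul_inv_eq_iff_eq_mul, mul_assoc, hinv j, ← mul_assoc, mul_inv_cancel, one_mul]
    _ = ((a * b) ^ j) ^ 2 * a := by rw [pow_two, mul_assoc]
    _ = b := by
        rw [h2, mul_inv_rev, inv_eq_of_mul_eq_one_left ha, inv_eq_of_mul_eq_one_left hb, mul_assoc, ha, mul_one]

/-- The list of indices of a finite type with prescribed weights. -/
theorem exists_list_map {α β : Type*} (f : α → β) :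
    ∀ (t : List β) (s : Multiset α), s.map f = ↑t → ∃ l : List α, (↑l : Multiset α) = s ∧ l.map f = t := by
  intro t
  induction t with
  | nil => intro s h; exact ⟨[], by rw [Multiset.map_eq_zero.1 h]; rfl, rfl⟩
  | cons b t ih =>
    intro s h
    rw [← Multiset.cons_coe] at h
    obtain ⟨a, ha, hab⟩ : ∃ a ∈ s, f a = b := Multiset.mem_map.1 (h ▸ Multiset.mem_cons_self _ _)
    obtain ⟨s', rfl⟩ := Multiset.exists_cons_of_mem ha
    rw [Multiset.map_cons, hab, Multiset.cons_inj_right] at h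
    obtain ⟨l, hl, hlt⟩ := ih s' h
    exact ⟨a :: l, by rw [← Multiset.cons_coe, hl], by rw [List.map_cons, hab, hlt]⟩

end Generic

variable {G : Type u} [Group G] [Fintype G] [IsSimpleGroup G] (hG : Nat.card G = 7920)

include hG

/-- The characters in the order of their degrees. -/
theorem exists_table : ∃ e : Fin 10 ≃ IrrCharacter G,
    ∀ i, charDegree (e i : G → ℂ) = ([1, 10, 10, 10, 11, 16, 16, 44, 45, 55] : List ℕ).getD i 0 := by
  classical
  have h := DefOne.Order7920.degrees hG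
  rw [show ({1, 10, 10, 10, 45, 16, 16, 11, 44, 55} : Multiset ℕ) =
    ↑([1, 10, 10, 10, 11, 16, 16, 44, 45, 55] : List ℕ) by decide] at h
  obtain ⟨l, hl, hlt⟩ := exists_list_map _ _ _ h
  have hn : l.Nodup := by
    rw [← Multiset.coe_nodup, hl]; exact Finset.univ.nodup
  have hlen : l.length = 10 := by
    have := congrArg List.length hlt
    simpa using this
  have hmem : ∀ x, x ∈ l := fun x => by
    rw [← Multiset.mem_coe, hl]; exact Finset.mem_univ x
  refine ⟨(finCongr hlen.symm).trans (hn.getEquivOfForallMemList l hmem), fun i => ?_⟩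
  show charDegree (l[(i : ℕ)]'(by omega) : G → ℂ) = _
  rw [← hlt, List.getD_eq_getElem _ _ (by rw [List.length_map]; omega), List.getElem_map]

theorem not_prime : ¬ (Nat.card G).Prime := DefOne.Order7920.not_prime hG

theorem centralizer_five {y : G} (hy : orderOf y = 5) :
    Nat.card (Subgroup.centralizer ({y} : Set G)) = 5 := by
  classical
  haveI : Fact (Nat.Prime 11) := ⟨by norm_num⟩
  haveI : Fact (Nat.Prime 5) := ⟨by norm_num⟩
  obtain ⟨M, hM⟩ := exists_isPModular_witness 11
  haveI := IsPModular.isPrime hM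
  obtain ⟨M', hM'⟩ := exists_isPModular_witness 5
  haveI := IsPModular.isPrime hM'
  obtain ⟨e, he⟩ := exists_table hG
  exact (DefOne.Order7920.five hG M' hM' (DefOne.Order7920.eleven hG M hM).1 (e 1) (by rw [he]; rfl)).2.2 y hy

theorem centralizer_eleven {y : G} (hy : orderOf y = 11) :
    Nat.card (Subgroup.centralizer ({y} : Set G)) = 11 := by
  classical
  haveI : Fact (Nat.Prime 11) := ⟨by norm_num⟩
  obtain ⟨M, hM⟩ := exists_isPModular_witness 11
  haveI := IsPModular.isPrime hM
  have hcard : Nat.card (Subgroup.zpowers y) = 11 ^ (Nat.card G).factorization 11 := by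
    rw [Nat.card_zpowers, hy, hG, show (7920 : ℕ) = 11 * 720 by norm_num,
      Nat.factorization_mul (by norm_num) (by norm_num), Finsupp.add_apply,
      Nat.Prime.factorization_self (by norm_num),
      Nat.factorization_eq_zero_of_not_dvd (by norm_num : ¬ 11 ∣ 720)]
    norm_num
  have h := (DefOne.Order7920.eleven hG M hM).1 (Sylow.ofCard _ hcard)
  rw [Sylow.coe_ofCard, Subgroup.zpowers_eq_closure, Subgroup.centralizer_closure] at h
  exact h

theorem selfCentral {y : G} {p : ℕ} (hy : orderOf y = p)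
    (hC : Nat.card (Subgroup.centralizer ({y} : Set G)) = p) : SylowSimple.SelfCentral y := by
  intro g hg
  have e : Subgroup.zpowers y = Subgroup.centralizer ({y} : Set G) := by
    refine Subgroup.eq_of_le_of_card_ge ?_ (by rw [hC, Nat.card_zpowers, hy])
    rw [Subgroup.zpowers_le, Subgroup.mem_centralizer_singleton_iff]
  rw [e, Subgroup.mem_centralizer_singleton_iff]; exact hg

/-- The centraliser of an involution has order dividing 144. -/
theorem card_centralizer_dvd {t : G} (ht : orderOf t = 2) :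
    Nat.card (Subgroup.centralizer ({t} : Set G)) ∣ 144 := by
  have hd : Nat.card (Subgroup.centralizer ({t} : Set G)) ∣ 144 * (5 * 11) := by
    have := Subgroup.card_subgroup_dvd_card (Subgroup.centralizer ({t} : Set G))
    rwa [hG] at this
  refine Nat.Coprime.dvd_of_dvd_mul_right ?_ hd
  have key : ∀ p : ℕ, p.Prime → p ≠ 2 → (∀ y : G, orderOf y = p → Nat.card (Subgroup.centralizer ({y} : Set G)) = p) →
      Nat.Coprime (Nat.card (Subgroup.centralizer ({t} : Set G))) p := by
    intro p hp h2 hC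
    refine (hp.coprime_iff_not_dvd.2 fun h => ?_).symm
    haveI : Fact p.Prime := ⟨hp⟩
    obtain ⟨x, hx⟩ := exists_prime_orderOf_dvd_card' p h
    have hxo : orderOf (x : G) = p := by rw [Subgroup.orderOf_coe, hx]
    have hmem : t ∈ Subgroup.centralizer ({(x : G)} : Set G) :=
      Subgroup.mem_centralizer_singleton_iff.2 (Subgroup.mem_centralizer_singleton_iff.1 x.2).symm
    have := Subgroup.orderOf_dvd_natCard _ hmem
    rw [hC _ hxo, ht] at this
    exact h2 ((Nat.prime_dvd_prime_iff_eq Nat.prime_two hp).1 this).symm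
  exact Nat.Coprime.mul_right (key 5 (by norm_num) (by norm_num) fun _ h => centralizer_five hG h)
    (key 11 (by norm_num) (by norm_num) fun _ h => centralizer_eleven hG h)

theorem card_normalizer_eleven {y : G} (hy : orderOf y = 11) :
    Nat.card (Subgroup.normalizer (Subgroup.zpowers y : Set G)) = 55 := by
  haveI : Fact (Nat.Prime 11) := ⟨by norm_num⟩
  obtain ⟨d, h1, h2, h3, h4⟩ := SylowSimple.card_normalizer hy (selfCentral hG hy (centralizer_eleven hG hy))
    (by rw [hG]; norm_num)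
  rw [h2]
  rw [hG] at h4
  have := Nat.le_of_dvd (by norm_num) h1
  interval_cases d <;> omega

theorem card_normalizer_five {y : G} (hy : orderOf y = 5) :
    Nat.card (Subgroup.normalizer (Subgroup.zpowers y : Set G)) = 20 := by
  haveI : Fact (Nat.Prime 5) := ⟨by norm_num⟩
  obtain ⟨d, h1, h2, h3, h4⟩ := SylowSimple.card_normalizer hy (selfCentral hG hy (centralizer_five hG hy))
    (by rw [hG]; norm_num)
  rw [h2]
  rw [hG] at h4
  have := Nat.le_of_dvd (by norm_num) h1
  interval_cases d <;> omega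

open Classical in
/-- The conjugates of a generator inside its cyclic group. -/
theorem exists_powers {y : G} {p d : ℕ} [hp : Fact p.Prime] (hy : orderOf y = p)
    (hC : Nat.card (Subgroup.centralizer ({y} : Set G)) = p)
    (hN : Nat.card (Subgroup.normalizer (Subgroup.zpowers y : Set G)) = p * d) :
    ∃ I : Finset ℕ, I ⊆ (Finset.range p).erase 0 ∧ d ≤ I.card ∧ ∀ i ∈ I, IsConj y (y ^ i) := by
  set N := Subgroup.normalizer (Subgroup.zpowers y : Set G)
  haveI : Fintype N := Fintype.ofFinite _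
  refine ⟨((Finset.range p).erase 0).filter fun i => IsConj y (y ^ i), Finset.filter_subset _ _, ?_,
    fun i hi => (Finset.mem_filter.1 hi).2⟩
  let S := (Finset.univ : Finset N).image fun g : N => (g : G) * y * (g : G)⁻¹
  have hfib : (Finset.univ : Finset N).card ≤ p * S.card := by
    refine Finset.card_le_mul_card_image _ p fun a ha => ?_
    obtain ⟨g₀, -, hg₀⟩ := Finset.mem_image.1 ha
    rw [← hC, Nat.card_eq_fintype_card, ← Finset.card_univ]
    have hmem : ∀ g : N, (g : G) * y * (g : G)⁻¹ = a → (g₀ : G)⁻¹ * g ∈ Subgroup.centralizer ({y} : Set G) := by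
      intro g h
      rw [Subgroup.mem_centralizer_singleton_iff]
      calc (g₀ : G)⁻¹ * g * y = (g₀ : G)⁻¹ * ((g : G) * y * (g : G)⁻¹) * g := by group
        _ = (g₀ : G)⁻¹ * ((g₀ : G) * y * (g₀ : G)⁻¹) * g := by rw [h, ← hg₀]
        _ = y * ((g₀ : G)⁻¹ * g) := by group
    refine Finset.card_le_card_of_injOn (fun g : N => if h : (g : G) * y * (g : G)⁻¹ = a then
      (⟨(g₀ : G)⁻¹ * g, hmem g h⟩ : Subgroup.centralizer ({y} : Set G)) else 1)
      (fun g _ => Finset.mem_coe.2 (Finset.mem_univ _)) ?_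
    intro g hg g' hg' e
    rw [Finset.mem_coe, Finset.mem_filter] at hg hg'
    simp only [dif_pos hg.2, dif_pos hg'.2] at e
    exact Subtype.ext (mul_left_cancel (congrArg Subtype.val e))
  rw [Finset.card_univ, ← Nat.card_eq_fintype_card, hN] at hfib
  refine le_trans (Nat.le_of_mul_le_mul_left hfib hp.out.pos) ?_
  refine Finset.card_le_card_of_surjOn (fun i => y ^ i) ?_
  intro a ha
  obtain ⟨g, -, rfl⟩ := Finset.mem_image.1 (Finset.mem_coe.1 ha)
  have hz := (Subgroup.mem_normalizer_iff.1 g.2 y).1 (Subgroup.mem_zpowers y)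
  obtain ⟨i, hi, he⟩ := Finset.mem_image.1 (mem_zpowers_iff_mem_range_orderOf.1 hz)
  refine ⟨i, Finset.mem_coe.2 (Finset.mem_filter.2 ⟨Finset.mem_erase.2 ⟨?_, hy ▸ hi⟩, isConj_iff.2 ⟨g, he.symm⟩⟩), he⟩
  rintro rfl
  rw [pow_zero, eq_comm, conj_eq_one_iff] at he
  rw [he, orderOf_one] at hy
  exact hp.out.ne_one hy.symm

theorem five_classes {y : G} (hy : orderOf y = 5) : ∀ i, 0 < i → i < 5 → IsConj y (y ^ i) := by
  haveI : Fact (Nat.Prime 5) := ⟨by norm_num⟩
  obtain ⟨I, hI, hc, hconj⟩ := exists_powers hG (d := 4) hy (centralizer_five hG hy) (card_normalizer_five hG hy)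
  have e : I = (Finset.range 5).erase 0 := Finset.eq_of_subset_of_card_le hI (le_trans (by decide) hc)
  intro i h0 h5
  exact hconj i (e ▸ Finset.mem_erase.2 ⟨by omega, Finset.mem_range.2 h5⟩)

theorem five_real {y : G} (hy : orderOf y = 5) : IsConj y y⁻¹ := by
  have := five_classes hG hy 4 (by norm_num) (by norm_num)
  rwa [show y ^ 4 = y⁻¹ from eq_inv_of_mul_eq_one_left (by rw [← pow_succ]; exact orderOf_dvd_iff_pow_eq_one.1 (dvd_of_eq hy))] at this

theorem eleven_not_real {y : G} (hy : orderOf y = 11) : ¬ IsConj y y⁻¹ := by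
  intro h
  obtain ⟨g, hg⟩ := isConj_iff.1 h
  have hgN : g ∈ Subgroup.normalizer (Subgroup.zpowers y : Set G) := by
    have hle : (Subgroup.zpowers y).map (MulAut.conj g).toMonoidHom = Subgroup.zpowers y := by
      refine Subgroup.eq_of_le_of_card_ge ?_ (by rw [Subgroup.card_map_of_injective (MulEquiv.injective _)])
      rw [MonoidHom.map_zpowers, Subgroup.zpowers_le]
      show g * y * g⁻¹ ∈ _
      rw [hg]; exact inv_mem (Subgroup.mem_zpowers y)
    rw [Subgroup.mem_normalizer_iff]
    intro x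
    conv_rhs => rw [← hle, Subgroup.mem_map_equiv]
    simp [MulAut.conj_symm_apply, mul_assoc]
  have h55 : g ^ 55 = 1 := orderOf_dvd_iff_pow_eq_one.1
    (card_normalizer_eleven hG hy ▸ Subgroup.orderOf_dvd_natCard _ hgN)
  have hinv : g * y⁻¹ * g⁻¹ = y := by rw [← conj_inv, hg, inv_inv]
  have hsq : g ^ 2 ∈ Subgroup.centralizer ({y} : Set G) := by
    rw [Subgroup.mem_centralizer_singleton_iff, pow_two, ← mul_inv_eq_iff_eq_mul,
      show g * g * y * (g * g)⁻¹ = g * (g * y * g⁻¹) * g⁻¹ by group, hg, hinv]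
  have hgc : g ∈ Subgroup.centralizer ({y} : Set G) := by
    have := (Subgroup.centralizer ({y} : Set G)).pow_mem hsq 28
    rwa [← pow_mul, show 2 * 28 = 55 + 1 from rfl, pow_succ, h55, one_mul] at this
  rw [Subgroup.mem_centralizer_singleton_iff, ← mul_inv_eq_iff_eq_mul, hg] at hgc
  have h2 : y ^ 2 = 1 := by rw [pow_two]; nth_rewrite 1 [← hgc]; exact inv_mul_cancel y
  have := orderOf_dvd_of_pow_eq_one h2
  rw [hy] at this
  norm_num at this

theorem eleven_classes {y : G} (hy : orderOf y = 11) :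
    ∀ i, 0 < i → i < 11 → IsConj y (y ^ i) ∨ IsConj y⁻¹ (y ^ i) := by
  classical
  haveI : Fact (Nat.Prime 11) := ⟨by norm_num⟩
  obtain ⟨I, hI, hc, hconj⟩ := exists_powers hG (d := 5) hy (centralizer_eleven hG hy) (card_normalizer_eleven hG hy)
  have hflip : ∀ i, i ≤ 11 → y ^ (11 - i) = (y ^ i)⁻¹ := fun i hi =>
    eq_inv_of_mul_eq_one_left (by rw [← pow_add, Nat.sub_add_cancel hi, ← hy, pow_orderOf_eq_one])
  have hlt : ∀ i ∈ I, 0 < i ∧ i < 11 := fun i hi => by
    have := hI hi
    simp only [Finset.mem_erase, Finset.mem_range] at this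
    omega
  have hdisj : Disjoint I (I.image fun i => 11 - i) := by
    rw [Finset.disjoint_left]
    intro i hi hi'
    obtain ⟨j, hj, rfl⟩ := Finset.mem_image.1 hi'
    refine eleven_not_real hG hy ((hconj _ hi).trans ?_)
    rw [hflip j (hlt j hj).2.le]
    obtain ⟨g, hg⟩ := isConj_iff.1 (hconj j hj).symm
    exact isConj_iff.2 ⟨g, by rw [← conj_inv, hg]⟩
  have e : I ∪ I.image (fun i => 11 - i) = (Finset.range 11).erase 0 := by
    refine Finset.eq_of_subset_of_card_le (Finset.union_subset hI fun i hi => ?_) ?_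
    · obtain ⟨j, hj, rfl⟩ := Finset.mem_image.1 hi
      have := hlt j hj
      exact Finset.mem_erase.2 ⟨by omega, Finset.mem_range.2 (by omega)⟩
    · rw [Finset.card_union_of_disjoint hdisj, Finset.card_image_of_injOn fun a ha b hb h => by
        have := hlt a ha; have := hlt b hb; have h' : 11 - a = 11 - b := h; omega]
      rw [Finset.card_erase_of_mem (by simp), Finset.card_range]
      omega
  intro i h0 h11
  have hi : i ∈ I ∪ I.image (fun i => 11 - i) := e ▸ Finset.mem_erase.2 ⟨by omega, Finset.mem_range.2 h11⟩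
  rcases Finset.mem_union.1 hi with h | h
  · exact Or.inl (hconj i h)
  · obtain ⟨j, hj, rfl⟩ := Finset.mem_image.1 h
    obtain ⟨g, hg⟩ := isConj_iff.1 (hconj j hj)
    refine Or.inr (isConj_iff.2 ⟨g, ?_⟩)
    rw [hflip j (hlt j hj).2.le, ← conj_inv, hg]

end Cfsg.Agent.M11Local
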