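import Cfsg.Agent.Lib.M11Local.Involution
import Mathlib.GroupTheory.Transfer
import Mathlib.GroupTheory.SpecificGroups.Cyclic

/-!
A simple group of order 7920: the normaliser of a Sylow subgroup for the prime three has order 144.
-/

set_option linter.unusedSectionVars false
set_option linter.style.haveILetI false

namespace Cfsg.Agent.M11Local

open Cfsg Cfsg.Agent.Char

universe u

section Helpers

variable {G : Type u} [Group G] [Finite G]

theorem mem_normalizer_of_map {H : Subgroup G} {g : G} (h : ∀ x ∈ H, g * x * g⁻¹ ∈ H) :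
    g ∈ Subgroup.normalizer (H : Set G) := by
  have hle : H.map (MulAut.conj g).toMonoidHom = H := by
    refine Subgroup.eq_of_le_of_card_ge ?_ (by rw [Subgroup.card_map_of_injective (MulEquiv.injective _)])
    rintro _ ⟨x, hx, rfl⟩
    exact h x hx
  rw [Subgroup.mem_normalizer_iff]
  intro x
  conv_rhs => rw [← hle, Subgroup.mem_map_equiv]
  simp [MulAut.conj_symm_apply, mul_assoc]

theorem conj_pow_fix {g a : G} {k : ℕ} (h : g * a * g⁻¹ = a) : g ^ k * a * (g ^ k)⁻¹ = a := by
  induction k with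
  | zero => group
  | succ k ih =>
    rw [pow_succ, show g ^ k * g * a * (g ^ k * g)⁻¹ = g ^ k * (g * a * g⁻¹) * (g ^ k)⁻¹ by group, h, ih]

theorem comm_of_conj {g a : G} (h : g * a * g⁻¹ = a) : g * a = a * g := mul_inv_eq_iff_eq_mul.1 h

theorem card_centralizer_conj (c a : G) :
    Nat.card (Subgroup.centralizer ({c * a * c⁻¹} : Set G)) = Nat.card (Subgroup.centralizer ({a} : Set G)) := by
  refine (Nat.card_congr (Equiv.subtypeEquiv (MulAut.conj c).toEquiv fun x => ?_)).symm
  simp only [Subgroup.mem_centralizer_singleton_iff, MulEquiv.toEquiv_eq_coe, MulEquiv.coe_toEquiv,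
    MulAut.conj_apply]
  rw [show c * x * c⁻¹ * (c * a * c⁻¹) = c * (x * a) * c⁻¹ by group,
    show c * a * c⁻¹ * (c * x * c⁻¹) = c * (a * x) * c⁻¹ by group, mul_left_inj, mul_right_inj]

/-- A centraliser with an element inverting has index two in the normaliser of the cyclic group. -/
theorem card_normalizer_inverted {H : Subgroup G} {x w : G} (hx : orderOf x = 3) (hw : w ∈ H)
    (hinv : w * x * w⁻¹ = x⁻¹) :
    Nat.card ↥(H ⊓ Subgroup.normalizer (Subgroup.zpowers x : Set G)) =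
      2 * Nat.card ↥(H ⊓ Subgroup.centralizer ({x} : Set G)) := by
  set C := H ⊓ Subgroup.centralizer ({x} : Set G)
  set N := H ⊓ Subgroup.normalizer (Subgroup.zpowers x : Set G)
  have hpow : ∀ n ∈ Subgroup.normalizer (Subgroup.zpowers x : Set G), n * x * n⁻¹ = x ∨ n * x * n⁻¹ = x⁻¹ := by
    intro n hn
    classical
    obtain ⟨i, hi, he⟩ := Finset.mem_image.1 (mem_zpowers_iff_mem_range_orderOf.1
      ((Subgroup.mem_normalizer_iff.1 hn x).1 (Subgroup.mem_zpowers x)))
    rw [Finset.mem_range, hx] at hi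
    interval_cases i
    · rw [pow_zero, eq_comm, conj_eq_one_iff] at he; rw [he, orderOf_one] at hx; omega
    · left; rw [← he, pow_one]
    · right
      rw [← he]
      exact eq_inv_of_mul_eq_one_left (by rw [← pow_succ]; exact orderOf_dvd_iff_pow_eq_one.1 (dvd_of_eq hx))
  have hCN : C ≤ N := by
    rintro c ⟨h1, h2⟩
    refine ⟨h1, mem_normalizer_of_map fun z hz => ?_⟩
    obtain ⟨k, rfl⟩ := Subgroup.mem_zpowers_iff.1 hz
    rw [show c * x ^ k * c⁻¹ = x ^ k from mul_inv_eq_iff_eq_mul.2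
      ((show Commute c x from Subgroup.mem_centralizer_singleton_iff.1 h2).zpow_right k).eq]
    exact Subgroup.zpow_mem _ (Subgroup.mem_zpowers x) k
  have hwN : w ∈ N := ⟨hw, mem_normalizer_of_map fun z hz => by
    obtain ⟨k, rfl⟩ := Subgroup.mem_zpowers_iff.1 hz
    rw [← conj_zpow, hinv]
    exact Subgroup.zpow_mem _ (inv_mem (Subgroup.mem_zpowers x)) k⟩
  have hidx : (C.subgroupOf N).index = 2 := by
    rw [Subgroup.index_eq_two_iff_exists_notMem_and]
    refine ⟨⟨w, hwN⟩, fun h => ?_, fun b => ?_⟩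
    · have h' := Subgroup.mem_centralizer_singleton_iff.1 (Subgroup.mem_subgroupOf.1 h).2
      rw [← mul_inv_eq_iff_eq_mul, hinv] at h'
      have : x ^ 2 = 1 := by rw [pow_two]; nth_rewrite 1 [← h']; exact inv_mul_cancel x
      have := orderOf_dvd_of_pow_eq_one this
      rw [hx] at this
      norm_num at this
    · rcases hpow _ b.2.2 with h | h
      · exact Or.inr (Subgroup.mem_subgroupOf.2 ⟨b.2.1, Subgroup.mem_centralizer_singleton_iff.2 (comm_of_conj h)⟩)
      · refine Or.inl (Subgroup.mem_subgroupOf.2 ⟨H.mul_mem b.2.1 hw,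
          Subgroup.mem_centralizer_singleton_iff.2 (comm_of_conj ?_)⟩)
        show ((b : G) * w) * x * ((b : G) * w)⁻¹ = x
        rw [show ((b : G) * w) * x * ((b : G) * w)⁻¹ = (b : G) * (w * x * w⁻¹) * (b : G)⁻¹ by group, hinv,
          ← conj_inv, h, inv_inv]
  have := (C.subgroupOf N).card_mul_index
  rw [hidx, Nat.card_congr (Subgroup.subgroupOfEquivOfLe hCN).toEquiv] at this
  omega

/-- The number of Sylow subgroups for three inside a subgroup with a self-evident one. -/
theorem sylow_mod {H : Subgroup G} {T : Subgroup G} (hTH : T ≤ H) (hT : IsPGroup 3 T)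
    (hmax : ¬ 3 * Nat.card T ∣ Nat.card H) :
    ∃ n, n % 3 = 1 ∧ n * Nat.card ↥(H ⊓ Subgroup.normalizer (T : Set G)) = Nat.card H := by
  haveI : Fact (Nat.Prime 3) := ⟨by norm_num⟩
  have hT' : IsPGroup 3 (T.subgroupOf H) := hT.of_equiv (Subgroup.subgroupOfEquivOfLe hTH).symm
  obtain ⟨S, hS⟩ := hT'.exists_le_sylow
  have hSe : (S : Subgroup H) = T.subgroupOf H := by
    refine (Subgroup.eq_of_le_of_card_ge hS ?_).symm
    obtain ⟨a, ha⟩ := IsPGroup.iff_card.1 S.2
    obtain ⟨b, hb⟩ := IsPGroup.iff_card.1 hT'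
    rw [ha, hb]
    refine Nat.pow_le_pow_right (by norm_num) ?_
    by_contra hc
    refine hmax ((show 3 * Nat.card T = 3 ^ (b + 1) by
      rw [← Nat.card_congr (Subgroup.subgroupOfEquivOfLe hTH).toEquiv, hb, pow_succ, mul_comm]) ▸ ?_)
    exact (pow_dvd_pow 3 (show b + 1 ≤ a by omega)).trans (ha ▸ Subgroup.card_subgroup_dvd_card (S : Subgroup H))
  have e : Subgroup.normalizer (S : Set H) = (H ⊓ Subgroup.normalizer (T : Set G)).subgroupOf H := by
    ext h
    rw [show (S : Set H) = ((S : Subgroup H) : Set H) from rfl, hSe, Subgroup.mem_subgroupOf, Subgroup.mem_inf]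
    constructor
    · intro hh
      refine ⟨h.2, mem_normalizer_of_map fun x hx => ?_⟩
      exact (Subgroup.mem_normalizer_iff.1 hh ⟨x, hTH hx⟩).1 hx
    · intro hh
      refine mem_normalizer_of_map fun x hx => ?_
      exact (Subgroup.mem_normalizer_iff.1 hh.2 (x : G)).1 hx
  refine ⟨Nat.card (Sylow 3 H), ?_, ?_⟩
  · exact Nat.mod_eq_of_modEq (card_sylow_modEq_one 3 H) (by norm_num)
  · rw [S.card_eq_index_normalizer, e, ← Nat.card_congr (Subgroup.subgroupOfEquivOfLe
      (inf_le_left : H ⊓ Subgroup.normalizer (T : Set G) ≤ H)).toEquiv, Subgroup.index_mul_card]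

end Helpers

variable {G : Type u} [Group G] [Fintype G] [IsSimpleGroup G] (hG : Nat.card G = 7920)

variable {P : Sylow 3 G}

include hG

theorem card_P : Nat.card P = 9 := by
  haveI : Fact (Nat.Prime 3) := ⟨by norm_num⟩
  rw [Sylow.card_eq_multiplicity, hG, show (7920 : ℕ) = 3 ^ 2 * 880 by norm_num,
    Nat.factorization_mul (by norm_num) (by norm_num), Finsupp.add_apply, Nat.Prime.factorization_pow (by norm_num),
    Finsupp.single_eq_same, Nat.factorization_eq_zero_of_not_dvd (by norm_num : ¬ 3 ∣ 880)]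
  norm_num

theorem P_comm {a b : G} (ha : a ∈ (P : Subgroup G)) (hb : b ∈ (P : Subgroup G)) : a * b = b * a := by
  haveI : Fact (Nat.Prime 3) := ⟨by norm_num⟩
  exact congrArg Subtype.val (IsPGroup.commutative_of_card_eq_prime_sq (G := P) (p := 3)
    (by rw [card_P hG]; rfl) ⟨a, ha⟩ ⟨b, hb⟩)

/-- Nine elements commute with no element of order two, five or eleven. -/
theorem centralizer_P_le {g : G} (hg : g ∈ Subgroup.centralizer ((P : Subgroup G) : Set G))
    (h : orderOf g = 2 ∨ orderOf g = 5 ∨ orderOf g = 11) : False := by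
  have hle : (P : Subgroup G) ≤ Subgroup.centralizer ({g} : Set G) := fun x hx =>
    Subgroup.mem_centralizer_singleton_iff.2 (Subgroup.mem_centralizer_iff.1 hg x hx)
  have hd := Subgroup.card_dvd_of_le hle
  rw [card_P hG] at hd
  rcases h with h | h | h
  · rw [card_centralizer_involution hG h] at hd; norm_num at hd
  · rw [centralizer_five hG h] at hd; norm_num at hd
  · rw [centralizer_eleven hG h] at hd; norm_num at hd

theorem card_dvd_sixteen_mul {H : Subgroup G}
    (h5 : ∀ y ∈ H, orderOf y ≠ 5) (h11 : ∀ y ∈ H, orderOf y ≠ 11) : Nat.card H ∣ 144 := by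
  have hd : Nat.card H ∣ 144 * (5 * 11) := by
    have := Subgroup.card_subgroup_dvd_card H
    rwa [hG] at this
  refine Nat.Coprime.dvd_of_dvd_mul_right ?_ hd
  have key : ∀ p : ℕ, p.Prime → (∀ y ∈ H, orderOf y ≠ p) → Nat.Coprime (Nat.card H) p := by
    intro p hp hC
    refine (hp.coprime_iff_not_dvd.2 fun h => ?_).symm
    haveI : Fact p.Prime := ⟨hp⟩
    obtain ⟨x, hx⟩ := exists_prime_orderOf_dvd_card' p h
    exact hC x x.2 (by rw [Subgroup.orderOf_coe, hx])
  exact Nat.Coprime.mul_right (key 5 (by norm_num) h5) (key 11 (by norm_num) h11)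

theorem centralizer_P_eq : Subgroup.centralizer ((P : Subgroup G) : Set G) = (P : Subgroup G) := by
  have hle : (P : Subgroup G) ≤ Subgroup.centralizer ((P : Subgroup G) : Set G) := fun x hx =>
    Subgroup.mem_centralizer_iff.2 fun y hy => P_comm hG hy hx
  refine (Subgroup.eq_of_le_of_card_ge hle ?_).symm
  rw [card_P hG]
  have hd := card_dvd_sixteen_mul hG (H := Subgroup.centralizer ((P : Subgroup G) : Set G))
    (fun y hy h => centralizer_P_le hG hy (Or.inr (Or.inl h))) (fun y hy h => centralizer_P_le hG hy (Or.inr (Or.inr h)))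
  have hodd : ¬ 2 ∣ Nat.card (Subgroup.centralizer ((P : Subgroup G) : Set G)) := fun h => by
    haveI : Fact (Nat.Prime 2) := ⟨Nat.prime_two⟩
    obtain ⟨x, hx⟩ := exists_prime_orderOf_dvd_card' 2 h
    exact centralizer_P_le hG x.2 (Or.inl (by rw [Subgroup.orderOf_coe, hx]))
  have h16 : Nat.Coprime (Nat.card (Subgroup.centralizer ((P : Subgroup G) : Set G))) (2 ^ 4) :=
    ((Nat.prime_two.coprime_iff_not_dvd.2 hodd).pow_left 4).symm
  exact Nat.le_of_dvd (by norm_num) (h16.dvd_of_dvd_mul_right (show _ ∣ 9 * 2 ^ 4 from hd))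

/-- The fixed elements of a normalising element in the Sylow subgroup. -/
theorem fix_bound {g : G} (hg : g ∉ (P : Subgroup G)) {a b : G} (ha : a ∈ (P : Subgroup G))
    (hb : b ∈ (P : Subgroup G)) (hga : g * a * g⁻¹ = a) (hgb : g * b * g⁻¹ = b) (ha1 : a ≠ 1) :
    b ∈ Subgroup.zpowers a := by
  by_contra hb'
  set F := (P : Subgroup G) ⊓ Subgroup.centralizer ({g} : Set G)
  have hmem : ∀ c, c ∈ (P : Subgroup G) → g * c * g⁻¹ = c → c ∈ F := fun c hc h =>
    ⟨hc, Subgroup.mem_centralizer_singleton_iff.2 (comm_of_conj h).symm⟩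
  have hF : Nat.card F ∣ 9 := card_P hG ▸ Subgroup.card_dvd_of_le inf_le_left
  have haF : Subgroup.zpowers a < F := lt_of_le_of_ne (Subgroup.zpowers_le.2 (hmem a ha hga))
    fun e => hb' (e ▸ hmem b hb hgb)
  have h3 : 3 ≤ Nat.card (Subgroup.zpowers a) := by
    have hd : Nat.card (Subgroup.zpowers a) ∣ 9 := card_P hG ▸ Subgroup.card_dvd_of_le (Subgroup.zpowers_le.2 ha)
    have hne : Nat.card (Subgroup.zpowers a) ≠ 1 := by rw [Nat.card_zpowers]; exact fun h => ha1 (orderOf_eq_one_iff.1 h)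
    have := Nat.le_of_dvd (by norm_num) hd
    interval_cases h : Nat.card (Subgroup.zpowers a) <;> omega
  have h4 : Nat.card (Subgroup.zpowers a) < Nat.card F := by
    by_contra hc
    exact haF.ne (Subgroup.eq_of_le_of_card_ge haF.le (by omega))
  have h9 : Nat.card F = 9 := by
    have := Nat.le_of_dvd (by norm_num) hF
    interval_cases Nat.card F <;> omega
  have hFP : F = (P : Subgroup G) := Subgroup.eq_of_le_of_card_ge inf_le_left (by rw [card_P hG, h9])
  refine hg ((centralizer_P_eq hG (P := P)) ▸ Subgroup.mem_centralizer_iff.2 fun x hx => ?_)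
  have : x ∈ F := hFP.symm ▸ hx
  exact Subgroup.mem_centralizer_singleton_iff.1 this.2

theorem normalizer_facts :
    (P : Subgroup G) ≤ Subgroup.normalizer ((P : Subgroup G) : Set G) ∧
    Nat.card (Subgroup.normalizer ((P : Subgroup G) : Set G)) ∈ ({36, 144} : Finset ℕ) := by
  haveI : Fact (Nat.Prime 3) := ⟨by norm_num⟩
  have hle : (P : Subgroup G) ≤ Subgroup.normalizer ((P : Subgroup G) : Set G) := Subgroup.le_normalizer
  refine ⟨hle, ?_⟩
  set N := Subgroup.normalizer ((P : Subgroup G) : Set G)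
  have hconj : ∀ y ∈ N, ∀ c ∈ (P : Subgroup G), ∀ i : ℕ, y ^ i * c * (y ^ i)⁻¹ ∈ (P : Subgroup G) := fun y hy c hc i =>
    (Subgroup.mem_normalizer_iff.1 (N.pow_mem hy i) c).1 hc
  have key : ∀ y ∈ N, ∀ p, p.Prime → (p = 5 ∨ p = 11) → orderOf y = p → False := by
    intro y hy p hp hp' hyp
    have hfix : ∀ c ∈ (P : Subgroup G), p = 11 → y * c * y⁻¹ = c := by
      intro c hc h11
      by_contra hne
      let f : Fin p → P := fun i => ⟨y ^ (i : ℕ) * c * (y ^ (i : ℕ))⁻¹, hconj y hy c hc i⟩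
      have hf : Function.Injective f := by
        intro i j e
        by_contra hij
        wlog hlt : (i : ℕ) < j generalizing i j with H
        · exact H e.symm (Ne.symm hij) (lt_of_le_of_ne (not_lt.1 hlt) fun h => hij (Fin.ext h.symm))
        have e' : y ^ ((j : ℕ) - i) * c * (y ^ ((j : ℕ) - i))⁻¹ = c := by
          have h := congrArg Subtype.val e
          simp only [f] at h
          rw [show y ^ ((j : ℕ) - i) = (y ^ (i : ℕ))⁻¹ * y ^ (j : ℕ) by
            rw [eq_inv_mul_iff_mul_eq, ← pow_add, Nat.add_sub_cancel' hlt.le]]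
          calc (y ^ (i : ℕ))⁻¹ * y ^ (j : ℕ) * c * ((y ^ (i : ℕ))⁻¹ * y ^ (j : ℕ))⁻¹
              = (y ^ (i : ℕ))⁻¹ * (y ^ (j : ℕ) * c * (y ^ (j : ℕ))⁻¹) * y ^ (i : ℕ) := by group
            _ = c := by rw [← h]; group
        obtain ⟨m, -, hm⟩ := Nat.exists_mul_mod_eq_one_of_coprime
          ((hp.coprime_iff_not_dvd.2 (Nat.not_dvd_of_pos_of_lt (by omega) (by omega))).symm : Nat.Coprime ((j : ℕ) - i) p)
          hp.one_lt
        refine hne ?_
        have h2 := conj_pow_fix (k := m) e'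
        rwa [← pow_mul, ← pow_mod_orderOf, hyp, hm, pow_one] at h2
      have := (Nat.card_le_card_of_injective f hf).trans_eq (card_P hG)
      rw [Nat.card_fin] at this
      omega
    rcases hp' with rfl | rfl
    · -- five: a fixed non-identity element
      have hZ : IsPGroup 5 (Subgroup.zpowers y) :=
        IsPGroup.of_card (n := 1) (by rw [Nat.card_zpowers, hyp, pow_one])
      let act : MulAction (Subgroup.zpowers y) P :=
        { smul := fun g c => ⟨(g : G) * c * (g : G)⁻¹, (Subgroup.mem_normalizer_iff.1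
            ((Subgroup.zpowers_le.2 hy) g.2) c).1 c.2⟩
          one_smul := fun c => Subtype.ext (show (1 : G) * c * (1 : G)⁻¹ = c by group)
          mul_smul := fun g h c => Subtype.ext (show ((g : G) * h) * c * ((g : G) * h)⁻¹ =
            (g : G) * ((h : G) * c * (h : G)⁻¹) * (g : G)⁻¹ by group) }
      haveI : Fact (Nat.Prime 5) := ⟨hp⟩
      have hm := hZ.card_modEq_card_fixedPoints P
      rw [card_P hG] at hm
      obtain ⟨⟨c, hc⟩, hc1⟩ : ∃ c : MulAction.fixedPoints (Subgroup.zpowers y) P, (c : P) ≠ 1 := by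
        by_contra hall
        push_neg at hall
        haveI : Subsingleton (MulAction.fixedPoints (Subgroup.zpowers y) P) :=
          ⟨fun a b => Subtype.ext ((hall a).trans (hall b).symm)⟩
        have := (Finite.card_le_one_iff_subsingleton (α := MulAction.fixedPoints (Subgroup.zpowers y) P)).2 inferInstance
        have h := hm
        rw [Nat.ModEq] at h
        omega
      have hcy : (c : G) ∈ Subgroup.centralizer ({y} : Set G) := by
        have := congrArg Subtype.val (hc ⟨y, Subgroup.mem_zpowers y⟩)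
        exact Subgroup.mem_centralizer_singleton_iff.2 (comm_of_conj this).symm
      have h5 := Subgroup.orderOf_dvd_natCard _ hcy
      have h9 : orderOf (c : G) ∣ 9 := card_P hG ▸ Subgroup.orderOf_dvd_natCard _ c.2
      rw [centralizer_five hG hyp] at h5
      have h1 : orderOf (c : G) = 1 := Nat.eq_one_of_dvd_coprimes (by norm_num : Nat.Coprime 5 9) h5 h9
      exact hc1 (Subtype.ext (orderOf_eq_one_iff.1 h1))
    · refine centralizer_P_le hG (Subgroup.mem_centralizer_iff.2 fun c hc => (comm_of_conj (hfix c hc rfl)).symm)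
        (Or.inr (Or.inr hyp))
  have hN : Nat.card N ∣ 144 := card_dvd_sixteen_mul hG (fun y hy h => key y hy 5 (by norm_num) (Or.inl rfl) h)
    (fun y hy h => key y hy 11 (by norm_num) (Or.inr rfl) h)
  obtain ⟨m, hm⟩ := card_P hG ▸ Subgroup.card_dvd_of_le hle
  have hm16 : m ∣ 16 := Nat.dvd_of_mul_dvd_mul_left (by norm_num : 0 < 9) (hm ▸ hN)
  have hidx : 9 * m * N.index = 7920 := by rw [← hm, Subgroup.card_mul_index, hG]
  have hmod : N.index % 3 = 1 := by
    have h := card_sylow_modEq_one 3 G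
    rw [P.card_eq_index_normalizer] at h
    exact Nat.mod_eq_of_modEq h (by norm_num)
  have hm1 : m ≠ 1 := by
    rintro rfl
    have hNP : N = (P : Subgroup G) := (Subgroup.eq_of_le_of_card_ge hle (by rw [card_P hG, hm])).symm
    have hP : Subgroup.normalizer (P : Set G) ≤ Subgroup.centralizer (P : Set G) := by
      show N ≤ Subgroup.centralizer ((P : Subgroup G) : Set G)
      rw [hNP, centralizer_P_eq hG]
    have hK := MonoidHom.ker_transferSylow_isComplement' P hP
    have h2 := hK.card_mul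
    rw [card_P hG, hG] at h2
    rcases (inferInstance : (MonoidHom.transferSylow P hP).ker.Normal).eq_bot_or_eq_top with h | h <;>
      rw [h] at h2 <;> simp only [Subgroup.card_bot, Subgroup.card_top, hG] at h2 <;> omega
  have := Nat.le_of_dvd (by norm_num) hm16
  rw [hm]
  simp only [Finset.mem_insert, Finset.mem_singleton]
  interval_cases m <;> omega

/-- An element inverting the whole Sylow subgroup, and an order two subgroup pattern, when the normaliser has
order 36. -/
theorem exists_inverting (hN : Nat.card (Subgroup.normalizer ((P : Subgroup G) : Set G)) = 36) :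
    ∃ Q : Subgroup G, Q ≤ Subgroup.normalizer ((P : Subgroup G) : Set G) ∧ Nat.card Q = 4 ∧
      (∀ q ∈ Q, q ∈ (P : Subgroup G) → q = 1) ∧
      ∃ w ∈ Q, w * w = 1 ∧ ∀ x ∈ (P : Subgroup G), w * x * w⁻¹ = x⁻¹ := by
  haveI : Fact (Nat.Prime 2) := ⟨Nat.prime_two⟩
  set N := Subgroup.normalizer ((P : Subgroup G) : Set G)
  obtain ⟨Q', hQ'⟩ := Sylow.exists_subgroup_card_pow_prime 2 (G := N) (n := 2) (by rw [hN]; norm_num)
  let Q := Q'.map N.subtype
  have hQ : Nat.card Q = 4 := (Subgroup.card_map_of_injective N.subtype_injective).trans hQ'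
  have hQN : Q ≤ N := Subgroup.map_subtype_le _
  have hdisj : ∀ q ∈ Q, q ∈ (P : Subgroup G) → q = 1 := fun q hq hq' => by
    have h1 := hQ ▸ Subgroup.orderOf_dvd_natCard Q hq
    have h2 := card_P hG ▸ Subgroup.orderOf_dvd_natCard _ hq'
    exact orderOf_eq_one_iff.1 (Nat.eq_one_of_dvd_coprimes (by norm_num : Nat.Coprime 4 9) h1 h2)
  have hcomm : ∀ u ∈ Q, ∀ v ∈ Q, u * v = v * u := fun u hu v hv =>
    congrArg Subtype.val (IsPGroup.commutative_of_card_eq_prime_sq (G := Q) (p := 2) (by rw [hQ]; rfl) ⟨u, hu⟩ ⟨v, hv⟩)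
  have hPmem : ∀ u ∈ Q, ∀ x ∈ (P : Subgroup G), u * x * u⁻¹ ∈ (P : Subgroup G) := fun u hu x hx =>
    (Subgroup.mem_normalizer_iff.1 (hQN hu) x).1 hx
  refine ⟨Q, hQN, hQ, hdisj, ?_⟩
  obtain ⟨q, hq⟩ := exists_prime_orderOf_dvd_card' 2 (show 2 ∣ Nat.card Q by rw [hQ]; norm_num)
  have hqq : (q : G) * q = 1 := by
    rw [← Subgroup.orderOf_coe] at hq
    rw [← pow_two, ← hq, pow_orderOf_eq_one]
  have hq1 : (q : G) ≠ 1 := fun h => by rw [← Subgroup.orderOf_coe, h, orderOf_one] at hq; omega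
  have hqinv : (q : G)⁻¹ = q := inv_eq_of_mul_eq_one_left hqq
  by_cases hfree : ∀ x ∈ (P : Subgroup G), (q : G) * x * (q : G)⁻¹ = x → x = 1
  · refine ⟨q, q.2, hqq, fun x hx => ?_⟩
    have hm := hPmem _ q.2 x hx
    refine eq_inv_of_mul_eq_one_left (hfree _ (mul_mem hm hx) ?_)
    calc (q : G) * ((q : G) * x * (q : G)⁻¹ * x) * (q : G)⁻¹
        = ((q : G) * q) * x * ((q : G) * q)⁻¹ * ((q : G) * x * (q : G)⁻¹) := by group
      _ = x * ((q : G) * x * (q : G)⁻¹) := by rw [hqq]; group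
      _ = (q : G) * x * (q : G)⁻¹ * x := P_comm hG hx hm
  push_neg at hfree
  obtain ⟨a, ha, hqa, ha1⟩ := hfree
  have hqP : (q : G) ∉ (P : Subgroup G) := fun h => hq1 (hdisj _ q.2 h)
  have ha3 : orderOf a = 3 := by
    have hd : orderOf a ∣ 9 := card_P hG ▸ Subgroup.orderOf_dvd_natCard _ ha
    have hne : orderOf a ≠ 1 := fun h => ha1 (orderOf_eq_one_iff.1 h)
    have := Nat.le_of_dvd (by norm_num) hd
    interval_cases h : orderOf a <;> try omega
    exfalso
    refine hqP (centralizer_P_eq hG (P := P) ▸ Subgroup.mem_centralizer_iff.2 fun x hx => ?_)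
    have e : Subgroup.zpowers a = (P : Subgroup G) :=
      Subgroup.eq_of_le_of_card_ge (Subgroup.zpowers_le.2 ha) (by rw [card_P hG, Nat.card_zpowers, h])
    rw [SetLike.mem_coe, ← e, Subgroup.mem_zpowers_iff] at hx
    obtain ⟨i, rfl⟩ := hx
    exact ((show Commute (q : G) a from comm_of_conj hqa).zpow_right i).symm.eq
  have hpm : ∀ z : G, z ∈ Subgroup.zpowers a → z = 1 ∨ z = a ∨ z = a⁻¹ := by
    intro z hz
    classical
    obtain ⟨i, hi, rfl⟩ := Finset.mem_image.1 (mem_zpowers_iff_mem_range_orderOf.1 hz)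
    rw [Finset.mem_range, ha3] at hi
    interval_cases i
    · left; exact pow_zero a
    · right; left; rw [pow_one]
    · right; right
      exact eq_inv_of_mul_eq_one_left (by rw [← pow_succ]; exact orderOf_dvd_iff_pow_eq_one.1 (dvd_of_eq ha3))
  obtain ⟨x₀, hx₀, hx₀'⟩ : ∃ x ∈ (P : Subgroup G), x ∉ Subgroup.zpowers a := by
    by_contra h
    push_neg at h
    have := Subgroup.card_le_of_le h
    rw [card_P hG, Nat.card_zpowers, ha3] at this
    omega
  have hm₀ := hPmem _ q.2 x₀ hx₀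
  set b := x₀ * ((q : G) * x₀ * (q : G)⁻¹)⁻¹ with hb
  have hbP : b ∈ (P : Subgroup G) := mul_mem hx₀ (inv_mem hm₀)
  have hb1 : b ≠ 1 := fun h => hx₀' (fix_bound hG hqP ha hx₀ hqa (mul_inv_eq_one.1 h).symm ha1)
  have hqb : (q : G) * b * (q : G)⁻¹ = b⁻¹ := by
    calc (q : G) * b * (q : G)⁻¹
        = ((q : G) * x₀ * (q : G)⁻¹) * (((q : G) * q) * x₀ * ((q : G) * q)⁻¹)⁻¹ := by rw [hb]; group
      _ = ((q : G) * x₀ * (q : G)⁻¹) * x₀⁻¹ := by rw [hqq]; group
      _ = b⁻¹ := by rw [hb]; group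
  have hbz : b ∉ Subgroup.zpowers a := by
    intro h
    obtain ⟨i, hi⟩ := Subgroup.mem_zpowers_iff.1 h
    rw [← hi, ← conj_zpow, hqa, hi] at hqb
    have : b ^ 2 = 1 := by rw [pow_two]; nth_rewrite 2 [hqb]; exact mul_inv_cancel b
    have h2 := orderOf_dvd_of_pow_eq_one this
    have h9 : orderOf b ∣ 9 := card_P hG ▸ Subgroup.orderOf_dvd_natCard _ hbP
    exact hb1 (orderOf_eq_one_iff.1 (Nat.eq_one_of_dvd_coprimes (by norm_num : Nat.Coprime 2 9) h2 h9))
  have hgen : ∀ x ∈ (P : Subgroup G), x ∈ Subgroup.closure ({a, b} : Set G) := by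
    intro x hx
    have hle : Subgroup.closure ({a, b} : Set G) ≤ (P : Subgroup G) := by
      rw [Subgroup.closure_le]; rintro z (rfl | rfl) <;> assumption
    have hlt : Subgroup.zpowers a < Subgroup.closure ({a, b} : Set G) :=
      lt_of_le_of_ne (Subgroup.zpowers_le.2 (Subgroup.subset_closure (by simp))) fun e =>
        hbz (e ▸ Subgroup.subset_closure (by simp))
    have hd := card_P hG ▸ Subgroup.card_dvd_of_le hle
    have h3 : 3 < Nat.card (Subgroup.closure ({a, b} : Set G)) := by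
      by_contra hc
      exact hlt.ne (Subgroup.eq_of_le_of_card_ge hlt.le (by rw [Nat.card_zpowers, ha3]; omega))
    have h9 : Nat.card (Subgroup.closure ({a, b} : Set G)) = 9 := by
      have := Nat.le_of_dvd (by norm_num) hd
      interval_cases Nat.card (Subgroup.closure ({a, b} : Set G)) <;> omega
    rw [Subgroup.eq_of_le_of_card_ge hle (by rw [card_P hG, h9])]
    exact hx
  obtain ⟨u, hu, hu1, huq⟩ : ∃ u ∈ Q, u ≠ 1 ∧ u ≠ q := by
    by_contra h
    push_neg at h
    have hle : Q ≤ Subgroup.zpowers (q : G) := fun u hu => by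
      by_cases h1 : u = 1
      · rw [h1]; exact one_mem _
      · rw [h u hu h1]; exact Subgroup.mem_zpowers _
    have := Subgroup.card_le_of_le hle
    rw [hQ, Nat.card_zpowers, Subgroup.orderOf_coe, hq] at this
    omega
  have hqu := hcomm _ q.2 u hu
  have hua : u * a * u⁻¹ = a ∨ u * a * u⁻¹ = a⁻¹ := by
    have hfix : (q : G) * (u * a * u⁻¹) * (q : G)⁻¹ = u * a * u⁻¹ := by
      calc (q : G) * (u * a * u⁻¹) * (q : G)⁻¹ = ((q : G) * u) * a * ((q : G) * u)⁻¹ := by group
        _ = (u * q) * a * (u * q)⁻¹ := by rw [hqu]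
        _ = u * ((q : G) * a * (q : G)⁻¹) * u⁻¹ := by group
        _ = u * a * u⁻¹ := by rw [hqa]
    rcases hpm _ (fix_bound hG hqP ha (hPmem u hu a ha) hqa hfix ha1) with h | h
    · exact absurd (conj_eq_one_iff.1 h) ha1
    · exact h
  have inv_all : ∀ v : G, v * a * v⁻¹ = a⁻¹ → v * b * v⁻¹ = b⁻¹ → ∀ x ∈ (P : Subgroup G), v * x * v⁻¹ = x⁻¹ := by
    intro v hva hvb x hx
    suffices ∀ z ∈ Subgroup.closure ({a, b} : Set G), z ∈ (P : Subgroup G) ∧ v * z * v⁻¹ = z⁻¹ from (this x (hgen x hx)).2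
    intro z hz
    induction hz using Subgroup.closure_induction with
    | mem z hz => rcases hz with rfl | rfl; exacts [⟨ha, hva⟩, ⟨hbP, hvb⟩]
    | one => exact ⟨one_mem _, by group⟩
    | mul y z _ _ hy hz =>
      refine ⟨mul_mem hy.1 hz.1, ?_⟩
      rw [show v * (y * z) * v⁻¹ = (v * y * v⁻¹) * (v * z * v⁻¹) by group, hy.2, hz.2, P_comm hG (inv_mem hy.1) (inv_mem hz.1),
        ← mul_inv_rev]
    | inv z _ hz => exact ⟨inv_mem hz.1, by rw [← conj_inv, hz.2]⟩
  have fixall : ∀ v ∈ Q, v * a * v⁻¹ = a → v * b * v⁻¹ = b → v = 1 := by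
    intro v hv hva hvb
    by_contra hv1
    exact hbz (fix_bound hG (fun h => hv1 (hdisj v hv h)) ha hbP hva hvb ha1)
  have hub : u * b * u⁻¹ = b ∨ u * b * u⁻¹ = b⁻¹ := by
    have hm := hPmem u hu b hbP
    have hinv : (q : G) * (u * b * u⁻¹) * (q : G)⁻¹ = (u * b * u⁻¹)⁻¹ := by
      calc (q : G) * (u * b * u⁻¹) * (q : G)⁻¹ = ((q : G) * u) * b * ((q : G) * u)⁻¹ := by group
        _ = (u * q) * b * (u * q)⁻¹ := by rw [hqu]
        _ = u * ((q : G) * b * (q : G)⁻¹) * u⁻¹ := by group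
        _ = (u * b * u⁻¹)⁻¹ := by rw [hqb]; group
    have hb' : ∀ z ∈ (P : Subgroup G), (q : G) * z * (q : G)⁻¹ = z⁻¹ → z ∈ Subgroup.zpowers b := by
      intro z hz hzi
      by_contra hzb
      have hle : Subgroup.closure ({b, z} : Set G) ≤ (P : Subgroup G) := by
        rw [Subgroup.closure_le]; rintro w (rfl | rfl) <;> assumption
      have hall : ∀ w ∈ Subgroup.closure ({b, z} : Set G), (q : G) * w * (q : G)⁻¹ = w⁻¹ := by
        intro w hw
        induction hw using Subgroup.closure_induction with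
        | mem w hw => rcases hw with rfl | rfl; exacts [hqb, hzi]
        | one => group
        | mul y z hy' hz' hy hz =>
          rw [show (q : G) * (y * z) * (q : G)⁻¹ = ((q : G) * y * (q : G)⁻¹) * ((q : G) * z * (q : G)⁻¹) by group,
            hy, hz, P_comm hG (inv_mem (hle hy')) (inv_mem (hle hz')), ← mul_inv_rev]
        | inv z _ hz => rw [← conj_inv, hz]
      have hlt : Subgroup.zpowers b < Subgroup.closure ({b, z} : Set G) :=
        lt_of_le_of_ne (Subgroup.zpowers_le.2 (Subgroup.subset_closure (by simp))) fun e =>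
          hzb (e ▸ Subgroup.subset_closure (by simp))
      have hd := card_P hG ▸ Subgroup.card_dvd_of_le hle
      have hbo : 3 ≤ orderOf b := by
        have hd : orderOf b ∣ 9 := card_P hG ▸ Subgroup.orderOf_dvd_natCard _ hbP
        have hne : orderOf b ≠ 1 := fun h => hb1 (orderOf_eq_one_iff.1 h)
        have := Nat.le_of_dvd (by norm_num) hd
        interval_cases h : orderOf b <;> omega
      have h3 : orderOf b < Nat.card (Subgroup.closure ({b, z} : Set G)) := by
        by_contra hc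
        exact hlt.ne (Subgroup.eq_of_le_of_card_ge hlt.le (by rw [Nat.card_zpowers]; omega))
      have h9 : Nat.card (Subgroup.closure ({b, z} : Set G)) = 9 := by
        have := Nat.le_of_dvd (by norm_num) hd
        interval_cases Nat.card (Subgroup.closure ({b, z} : Set G)) <;> omega
      have := hall a (by rw [Subgroup.eq_of_le_of_card_ge hle (by rw [card_P hG, h9])]; exact ha)
      rw [hqa] at this
      have h2 : a ^ 2 = 1 := by rw [pow_two]; nth_rewrite 2 [this]; exact mul_inv_cancel a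
      have := orderOf_dvd_of_pow_eq_one h2
      rw [ha3] at this
      norm_num at this
    have hbo : orderOf b = 3 := by
      have hd : orderOf b ∣ 9 := card_P hG ▸ Subgroup.orderOf_dvd_natCard _ hbP
      have hne : orderOf b ≠ 1 := fun h => hb1 (orderOf_eq_one_iff.1 h)
      have := Nat.le_of_dvd (by norm_num) hd
      interval_cases h : orderOf b <;> try omega
      exfalso
      have e : Subgroup.zpowers b = (P : Subgroup G) :=
        Subgroup.eq_of_le_of_card_ge (Subgroup.zpowers_le.2 hbP) (by rw [card_P hG, Nat.card_zpowers, h])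
      obtain ⟨i, hi⟩ := Subgroup.mem_zpowers_iff.1 (e.symm ▸ ha : a ∈ Subgroup.zpowers b)
      have hai : (q : G) * a * (q : G)⁻¹ = a⁻¹ := by rw [← hi, ← conj_zpow, hqb, inv_zpow]
      rw [hqa] at hai
      have h2 : a ^ 2 = 1 := by rw [pow_two]; nth_rewrite 2 [hai]; exact mul_inv_cancel a
      have := orderOf_dvd_of_pow_eq_one h2
      rw [ha3] at this
      norm_num at this
    classical
    obtain ⟨i, hi, he⟩ := Finset.mem_image.1 (mem_zpowers_iff_mem_range_orderOf.1 (hb' _ hm hinv))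
    rw [Finset.mem_range, hbo] at hi
    interval_cases i
    · rw [pow_zero, eq_comm, conj_eq_one_iff] at he; exact absurd he hb1
    · left; rw [← he, pow_one]
    · right; rw [← he]
      exact eq_inv_of_mul_eq_one_left (by rw [← pow_succ]; exact orderOf_dvd_iff_pow_eq_one.1 (dvd_of_eq hbo))
  have conj2 : ∀ v w z : G, v * w * z * (v * w)⁻¹ = v * (w * z * w⁻¹) * v⁻¹ := fun v w z => by group
  -- the inverting element
  obtain ⟨w, hw, hwa, hwb⟩ : ∃ w ∈ Q, w * a * w⁻¹ = a⁻¹ ∧ w * b * w⁻¹ = b⁻¹ := by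
    rcases hua with hua | hua <;> rcases hub with hub | hub
    · exact absurd (fixall u hu hua hub) hu1
    · exfalso
      refine huq ?_
      have := fixall ((q : G) * u) (mul_mem q.2 hu) (by rw [conj2, hua, hqa])
        (by rw [conj2, hub, ← conj_inv, hqb, inv_inv])
      rw [← hqinv]; exact eq_inv_of_mul_eq_one_right this
    · exact ⟨(q : G) * u, mul_mem q.2 hu, by rw [conj2, hua, ← conj_inv, hqa], by rw [conj2, hub, hqb]⟩
    · exact ⟨u, hu, hua, hub⟩
  refine ⟨w, hw, fixall _ (mul_mem hw hw) ?_ ?_, inv_all w hwa hwb⟩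
  · rw [conj2, hwa, ← conj_inv, hwa, inv_inv]
  · rw [conj2, hwb, ← conj_inv, hwb, inv_inv]

theorem orderOf_mem_P {a : G} (ha : a ∈ (P : Subgroup G)) (ha1 : a ≠ 1) {q : G}
    (hq : q ∉ (P : Subgroup G)) (hqa : q * a * q⁻¹ = a) : orderOf a = 3 := by
  have hd : orderOf a ∣ 9 := card_P hG ▸ Subgroup.orderOf_dvd_natCard _ ha
  have hne : orderOf a ≠ 1 := fun h => ha1 (orderOf_eq_one_iff.1 h)
  have := Nat.le_of_dvd (by norm_num) hd
  interval_cases h : orderOf a <;> try omega
  exfalso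
  refine hq (centralizer_P_eq hG (P := P) ▸ Subgroup.mem_centralizer_iff.2 fun x hx => ?_)
  have e : Subgroup.zpowers a = (P : Subgroup G) :=
    Subgroup.eq_of_le_of_card_ge (Subgroup.zpowers_le.2 ha) (by rw [card_P hG, Nat.card_zpowers, h])
  rw [SetLike.mem_coe, ← e, Subgroup.mem_zpowers_iff] at hx
  obtain ⟨i, rfl⟩ := hx
  exact ((show Commute q a from comm_of_conj hqa).zpow_right i).symm.eq

/-- The case with a fixed element: too many classes. -/
theorem no_fixed (hN : Nat.card (Subgroup.normalizer ((P : Subgroup G) : Set G)) = 36)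
    {Q : Subgroup G} (hQN : Q ≤ Subgroup.normalizer ((P : Subgroup G) : Set G)) (hQ : Nat.card Q = 4)
    (hdisj : ∀ q ∈ Q, q ∈ (P : Subgroup G) → q = 1) {w : G} (hwQ : w ∈ Q) (hww : w * w = 1)
    (hw : ∀ x ∈ (P : Subgroup G), w * x * w⁻¹ = x⁻¹) {g : G} (hgQ : g ∈ Q) (hg : orderOf g = 2)
    {a : G} (ha : a ∈ (P : Subgroup G)) (ha1 : a ≠ 1) (hga : g * a * g⁻¹ = a) : False := by
  classical
  haveI : Fact (Nat.Prime 3) := ⟨by norm_num⟩
  have hcomm : ∀ u ∈ Q, ∀ v ∈ Q, u * v = v * u := fun u hu v hv => by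
    haveI : Fact (Nat.Prime 2) := ⟨Nat.prime_two⟩
    exact congrArg Subtype.val (IsPGroup.commutative_of_card_eq_prime_sq (G := Q) (p := 2) (by rw [hQ]; rfl) ⟨u, hu⟩ ⟨v, hv⟩)
  have hgg : g * g = 1 := by rw [← pow_two, ← hg, pow_orderOf_eq_one]
  have hg1 : g ≠ 1 := fun h => by rw [h, orderOf_one] at hg; omega
  have hgP : g ∉ (P : Subgroup G) := fun h => hg1 (hdisj g hgQ h)
  have ha3 := orderOf_mem_P hG ha ha1 hgP hga
  have hPmem : ∀ u ∈ Q, ∀ x ∈ (P : Subgroup G), u * x * u⁻¹ ∈ (P : Subgroup G) := fun u hu x hx =>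
    (Subgroup.mem_normalizer_iff.1 (hQN hu) x).1 hx
  have ne_inv : ∀ {x : G}, x ∈ (P : Subgroup G) → x ≠ 1 → x⁻¹ ≠ x := by
    intro x hx hx1 e
    have h2 : x ^ 2 = 1 := by rw [pow_two]; nth_rewrite 1 [← e]; exact inv_mul_cancel x
    exact hx1 (orderOf_eq_one_iff.1 (Nat.eq_one_of_dvd_coprimes (by norm_num : Nat.Coprime 2 9)
      (orderOf_dvd_of_pow_eq_one h2) (card_P hG ▸ Subgroup.orderOf_dvd_natCard _ hx)))
  obtain ⟨x₀, hx₀, hx₀'⟩ : ∃ x ∈ (P : Subgroup G), x ∉ Subgroup.zpowers a := by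
    by_contra h
    push_neg at h
    have := Subgroup.card_le_of_le h
    rw [card_P hG, Nat.card_zpowers, ha3] at this
    omega
  set b := x₀ * (g * x₀ * g⁻¹)⁻¹ with hb
  have hbP : b ∈ (P : Subgroup G) := mul_mem hx₀ (inv_mem (hPmem g hgQ x₀ hx₀))
  have hb1 : b ≠ 1 := fun h => hx₀' (fix_bound hG hgP ha hx₀ hga (mul_inv_eq_one.1 h).symm ha1)
  have hgb : g * b * g⁻¹ = b⁻¹ := by
    calc g * b * g⁻¹ = (g * x₀ * g⁻¹) * ((g * g) * x₀ * (g * g)⁻¹)⁻¹ := by rw [hb]; group
      _ = (g * x₀ * g⁻¹) * x₀⁻¹ := by rw [hgg]; group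
      _ = b⁻¹ := by rw [hb]; group
  set g' := g * w with hg'
  have hg'Q : g' ∈ Q := mul_mem hgQ hwQ
  have hg'b : g' * b * g'⁻¹ = b := by
    rw [hg', show g * w * b * (g * w)⁻¹ = g * (w * b * w⁻¹) * g⁻¹ by group, hw b hbP, ← conj_inv, hgb, inv_inv]
  have hg'a : g' * a * g'⁻¹ = a⁻¹ := by
    rw [hg', show g * w * a * (g * w)⁻¹ = g * (w * a * w⁻¹) * g⁻¹ by group, hw a ha, ← conj_inv, hga]
  have hg'1 : g' ≠ 1 := fun h => ne_inv ha ha1 (by rw [h] at hg'a; simpa using hg'a.symm)
  have hg'g' : g' * g' = 1 := by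
    rw [hg', mul_assoc, ← mul_assoc w g w, hcomm w hwQ g hgQ, mul_assoc g w w, hww, mul_one, hgg]
  have hg'2 : orderOf g' = 2 := orderOf_eq_prime (by rw [pow_two, hg'g']) hg'1
  have hg'P : g' ∉ (P : Subgroup G) := fun h => hg'1 (hdisj g' hg'Q h)
  have hb3 := orderOf_mem_P hG hbP hb1 hg'P hg'b
  have hab : a * b ∈ (P : Subgroup G) := mul_mem ha hbP
  have hgab : g * (a * b) * g⁻¹ = a * b⁻¹ := by
    rw [show g * (a * b) * g⁻¹ = (g * a * g⁻¹) * (g * b * g⁻¹) by group, hga, hgb]
  have hab1 : a * b ≠ 1 := by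
    intro h
    rw [eq_inv_of_mul_eq_one_right h, ← conj_inv, hga, inv_inv] at hgb
    exact ne_inv ha ha1 hgb
  have hab3 : orderOf (a * b) = 3 := by
    refine orderOf_eq_prime ?_ hab1
    rw [(show Commute a b from P_comm hG ha hbP).mul_pow, orderOf_dvd_iff_pow_eq_one.1 (dvd_of_eq ha3),
      orderOf_dvd_iff_pow_eq_one.1 (dvd_of_eq hb3), one_mul]
  -- conjugacy inside the Sylow subgroup is by the four group
  have hQelts : ∀ u ∈ Q, u = 1 ∨ u = g ∨ u = w ∨ u = g' := by
    intro u hu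
    by_contra h
    push_neg at h
    have hw1 : w ≠ 1 := fun e => ne_inv ha ha1 (by have := hw a ha; rw [e] at this; simpa using this.symm)
    have hgw : g ≠ w := fun e => ne_inv ha ha1 (by have := hw a ha; rw [← e, hga] at this; exact this.symm)
    have hg'g : g' ≠ g := fun e => hw1 (mul_eq_left.1 e)
    have hg'w : g' ≠ w := fun e => hg1 (mul_eq_right.1 e)
    have hnd : ([⟨1, one_mem _⟩, ⟨g, hgQ⟩, ⟨w, hwQ⟩, ⟨g', hg'Q⟩, ⟨u, hu⟩] : List Q).Nodup := by
      simp [Subtype.ext_iff, hg1.symm, hw1.symm, hg'1.symm, hgw, hg'g.symm, hg'w.symm, Ne.symm h.1, Ne.symm h.2.1,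
        Ne.symm h.2.2.1, Ne.symm h.2.2.2]
    have hc : (5 : ℕ) ≤ Nat.card Q := by
      rw [Nat.card_eq_fintype_card]
      exact hnd.length_le_card
    omega
  have fusion : ∀ x ∈ (P : Subgroup G), ∀ y ∈ (P : Subgroup G), IsConj x y →
      y = x ∨ y = g * x * g⁻¹ ∨ y = x⁻¹ ∨ y = g' * x * g'⁻¹ := by
    intro x hx y hy hxy
    obtain ⟨c, hc⟩ := isConj_iff.1 hxy
    haveI : IsMulCommutative (P : Subgroup G) := ⟨⟨fun a b => Subtype.ext (P_comm hG a.2 b.2)⟩⟩
    obtain ⟨n, hn, he⟩ := P.conj_eq_normalizer_conj_of_mem x c⁻¹ hx (by rw [inv_inv, hc]; exact hy)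
    rw [inv_inv, hc] at he
    -- a decomposition of the normaliser
    have hm : ∃ q ∈ Q, ∃ p ∈ (P : Subgroup G), n⁻¹ = q * p := by
      have hsub : Q.subgroupOf (Subgroup.normalizer ((P : Subgroup G) : Set G)) ⊓
          (P : Subgroup G).subgroupOf (Subgroup.normalizer ((P : Subgroup G) : Set G)) = ⊥ := by
        rw [eq_bot_iff]
        rintro z ⟨hz1, hz2⟩
        exact Subtype.ext (hdisj _ hz1 hz2)
      have hcp := Subgroup.isComplement'_of_card_mul_and_disjoint
        (H := Q.subgroupOf (Subgroup.normalizer ((P : Subgroup G) : Set G)))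
        (K := (P : Subgroup G).subgroupOf (Subgroup.normalizer ((P : Subgroup G) : Set G)))
        (by rw [Nat.card_congr (Subgroup.subgroupOfEquivOfLe hQN).toEquiv,
          Nat.card_congr (Subgroup.subgroupOfEquivOfLe Subgroup.le_normalizer).toEquiv, hQ, card_P hG, hN])
        (disjoint_iff.2 hsub)
      obtain ⟨⟨q, p⟩, hqp, -⟩ := Subgroup.isComplement_iff_existsUnique.1 hcp ⟨n⁻¹, inv_mem hn⟩
      exact ⟨_, q.2, _, p.2, (congrArg Subtype.val hqp).symm⟩
    obtain ⟨q, hq, p, hp, hnp⟩ := hm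
    have e : y = q * x * q⁻¹ := by
      rw [he, show n = (q * p)⁻¹ by rw [← hnp, inv_inv], inv_inv,
        show q * p * x * (q * p)⁻¹ = q * (p * x * p⁻¹) * q⁻¹ by group,
        show p * x * p⁻¹ = x by rw [P_comm hG hp hx, mul_inv_cancel_right]]
    rcases hQelts q hq with rfl | rfl | rfl | rfl
    · left; simpa using e
    · exact Or.inr (Or.inl e)
    · exact Or.inr (Or.inr (Or.inl (by rw [e, hw x hx])))
    · exact Or.inr (Or.inr (Or.inr e))
  have hbz : b ∉ Subgroup.zpowers a := fun h => by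
    obtain ⟨k, hk⟩ := Subgroup.mem_zpowers_iff.1 h
    rw [← hk, ← conj_zpow, hga, hk] at hgb
    exact ne_inv hbP hb1 hgb.symm
  have haz : a ∉ Subgroup.zpowers b := fun h => by
    obtain ⟨k, hk⟩ := Subgroup.mem_zpowers_iff.1 h
    rw [← hk, ← conj_zpow, hgb, inv_zpow, hk] at hga
    exact ne_inv ha ha1 hga
  have fuse_a : ∀ x ∈ (P : Subgroup G), IsConj a x → x ∈ Subgroup.zpowers a := fun x hx h => by
    rcases fusion a ha x hx h with rfl | rfl | rfl | rfl
    · exact Subgroup.mem_zpowers _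
    · rw [hga]; exact Subgroup.mem_zpowers _
    · exact inv_mem (Subgroup.mem_zpowers _)
    · rw [hg'a]; exact inv_mem (Subgroup.mem_zpowers _)
  have fuse_b : ∀ x ∈ (P : Subgroup G), IsConj b x → x ∈ Subgroup.zpowers b := fun x hx h => by
    rcases fusion b hbP x hx h with rfl | rfl | rfl | rfl
    · exact Subgroup.mem_zpowers _
    · rw [hgb]; exact inv_mem (Subgroup.mem_zpowers _)
    · exact inv_mem (Subgroup.mem_zpowers _)
    · rw [hg'b]; exact Subgroup.mem_zpowers _
  have nab : ¬ IsConj a b := fun h => hbz (fuse_a b hbP h)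
  have naab : ¬ IsConj a (a * b) := fun h => hbz (by
    simpa using mul_mem (inv_mem (Subgroup.mem_zpowers a)) (fuse_a _ hab h))
  have nbab : ¬ IsConj b (a * b) := fun h => haz (by
    simpa using mul_mem (fuse_b _ hab h) (inv_mem (Subgroup.mem_zpowers b)))
  -- ten classes
  obtain ⟨y, hy⟩ : ∃ y : G, orderOf y = 11 := by
    haveI : Fact (Nat.Prime 11) := ⟨by norm_num⟩
    exact exists_prime_orderOf_dvd_card' 11 (by rw [hG]; norm_num)
  obtain ⟨z, hz⟩ : ∃ z : G, orderOf z = 5 := by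
    haveI : Fact (Nat.Prime 5) := ⟨by norm_num⟩
    exact exists_prime_orderOf_dvd_card' 5 (by rw [hG]; norm_num)
  have cga : Commute a g := (comm_of_conj hga).symm
  have cgb : Commute b g' := (comm_of_conj hg'b).symm
  have hag : orderOf (a * g) = 6 := by
    rw [cga.orderOf_mul_eq_mul_orderOf_of_coprime (by rw [ha3, hg]; norm_num), ha3, hg]
  have hbg : orderOf (b * g') = 6 := by
    rw [cgb.orderOf_mul_eq_mul_orderOf_of_coprime (by rw [hb3, hg'2]; norm_num), hb3, hg'2]
  have nsix : ¬ IsConj (a * g) (b * g') := fun h => by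
    obtain ⟨c, hc⟩ := isConj_iff.1 h
    have h2 := congrArg (fun x => x ^ 2) hc
    simp only [conj_pow] at h2
    rw [cga.mul_pow, cgb.mul_pow, pow_two g, hgg, pow_two g', hg'g', mul_one, mul_one] at h2
    have sq : ∀ {x : G}, orderOf x = 3 → x ^ 2 = x⁻¹ := fun {x} hx =>
      eq_inv_of_mul_eq_one_left (by rw [← pow_succ]; exact orderOf_dvd_iff_pow_eq_one.1 (dvd_of_eq hx))
    rw [sq ha3, sq hb3, ← conj_inv, inv_inj] at h2
    exact nab (isConj_iff.2 ⟨c, h2⟩)
  let L : Fin 10 → G := fun i => ([1, y, y⁻¹, z, g, a, b, a * b, a * g, b * g'] : List G).getD i 1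
  have ho : ∀ i, orderOf (L i) = ([1, 11, 11, 5, 2, 3, 3, 3, 6, 6] : List ℕ).getD i 0 := by
    intro i
    fin_cases i
    exacts [orderOf_one, hy, (orderOf_inv y).trans hy, hz, hg, ha3, hb3, hab3, hag, hbg]
  have hinj : Function.Injective fun i => ConjClasses.mk (L i) := by
    intro i j h
    have hc := ConjClasses.mk_eq_mk_iff_isConj.1 h
    have hord : ([1, 11, 11, 5, 2, 3, 3, 3, 6, 6] : List ℕ).getD i 0 = ([1, 11, 11, 5, 2, 3, 3, 3, 6, 6] : List ℕ).getD j 0 := by
      rw [← ho, ← ho]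
      obtain ⟨c, hc'⟩ := isConj_iff.1 hc
      rw [← hc']
      exact (MulEquiv.orderOf_eq (MulAut.conj c) _).symm
    have key : ∀ i j : Fin 10, ([1, 11, 11, 5, 2, 3, 3, 3, 6, 6] : List ℕ).getD i 0 = ([1, 11, 11, 5, 2, 3, 3, 3, 6, 6] : List ℕ).getD j 0 →
        i = j ∨ ((i : ℕ), (j : ℕ)) ∈ ([(1, 2), (2, 1), (5, 6), (6, 5), (5, 7), (7, 5), (6, 7), (7, 6), (8, 9), (9, 8)] : List (ℕ × ℕ)) := by
      decide
    rcases key i j hord with e | e
    · exact e
    exfalso
    simp only [List.mem_cons, Prod.mk.injEq, List.not_mem_nil, or_false] at e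
    simp only [L] at hc
    rcases e with ⟨e1, e2⟩ | ⟨e1, e2⟩ | ⟨e1, e2⟩ | ⟨e1, e2⟩ | ⟨e1, e2⟩ | ⟨e1, e2⟩ | ⟨e1, e2⟩ | ⟨e1, e2⟩ | ⟨e1, e2⟩ | ⟨e1, e2⟩ <;>
      simp only [e1, e2, List.getD_cons_succ, List.getD_cons_zero] at hc
    · exact eleven_not_real hG hy hc
    · exact eleven_not_real hG hy hc.symm
    · exact nab hc
    · exact nab hc.symm
    · exact naab hc
    · exact naab hc.symm
    · exact nbab hc
    · exact nbab hc.symm
    · exact nsix hc
    · exact nsix hc.symm
  haveI : Finite (ConjClasses G) := Finite.of_surjective ConjClasses.mk ConjClasses.mk_surjective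
  have hcard : Nat.card (ConjClasses G) = 10 := by
    obtain ⟨e, -⟩ := exists_table hG
    rw [← card_irrCharacter, ← Nat.card_congr e, Nat.card_fin]
  have hsurj := ((Nat.bijective_iff_injective_and_card _).2 ⟨hinj, by rw [Nat.card_fin, hcard]⟩).2
  have hcover : (Finset.univ : Finset G) ⊆ (Finset.univ : Finset (Fin 10)).biUnion fun i => classFinset (L i) := by
    intro x _
    obtain ⟨i, hi⟩ := hsurj (ConjClasses.mk x)
    exact Finset.mem_biUnion.2 ⟨i, Finset.mem_univ _, mem_classFinset.2 (ConjClasses.mk_eq_mk_iff_isConj.1 hi)⟩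
  have hsum := (Finset.card_le_card hcover).trans Finset.card_biUnion_le
  rw [Finset.card_univ, ← Nat.card_eq_fintype_card, hG, sum_ten] at hsum
  simp only [card_classFinset] at hsum
  have bound : ∀ (x : G) (c : ℕ), 0 < c → c ≤ Nat.card (Subgroup.centralizer ({x} : Set G)) →
      (Subgroup.centralizer ({x} : Set G)).index ≤ 7920 / c := by
    intro x c hc hle
    have h := (Subgroup.centralizer ({x} : Set G)).card_mul_index
    rw [hG] at h
    rw [Nat.le_div_iff_mul_le hc, ← h, mul_comm (Nat.card _)]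
    exact Nat.mul_le_mul_left _ hle
  have low : ∀ {x : G} {c : ℕ}, c ∣ Nat.card (Subgroup.centralizer ({x} : Set G)) →
      c ≤ Nat.card (Subgroup.centralizer ({x} : Set G)) := fun h => Nat.le_of_dvd Nat.card_pos h
  have nine : ∀ {x : G}, x ∈ (P : Subgroup G) → 9 ∣ Nat.card (Subgroup.centralizer ({x} : Set G)) := by
    intro x hx
    rw [← card_P hG (P := P)]
    exact Subgroup.card_dvd_of_le fun c hc => Subgroup.mem_centralizer_singleton_iff.2 (P_comm hG hc hx)
  have eighteen : ∀ {x u : G}, x ∈ (P : Subgroup G) → orderOf u = 2 → u * x * u⁻¹ = x →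
      18 ∣ Nat.card (Subgroup.centralizer ({x} : Set G)) := by
    intro x u hx hu hux
    refine Nat.Coprime.mul_dvd_of_dvd_of_dvd (by norm_num : Nat.Coprime 9 2) (nine hx) ?_
    rw [← hu]
    exact Subgroup.orderOf_dvd_natCard _ (Subgroup.mem_centralizer_singleton_iff.2 (comm_of_conj hux))
  have self : ∀ x : G, orderOf x ∣ Nat.card (Subgroup.centralizer ({x} : Set G)) := fun x =>
    Subgroup.orderOf_dvd_natCard _ (Subgroup.mem_centralizer_singleton_iff.2 rfl)
  have b0 := bound (L 0) 7920 (by norm_num) (by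
    show 7920 ≤ Nat.card (Subgroup.centralizer ({(1 : G)} : Set G))
    rw [show Subgroup.centralizer ({(1 : G)} : Set G) = ⊤ by
      ext x; simp [Subgroup.mem_centralizer_singleton_iff], Subgroup.card_top, hG])
  have b1 := bound (L 1) 11 (by norm_num) (centralizer_eleven hG (y := L 1) hy).ge
  have b2 := bound (L 2) 11 (by norm_num) (centralizer_eleven hG (y := L 2) ((orderOf_inv y).trans hy)).ge
  have b3 := bound (L 3) 5 (by norm_num) (centralizer_five hG (y := L 3) hz).ge
  have b4 := bound (L 4) 48 (by norm_num) (card_centralizer_involution hG (s := L 4) hg).ge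
  have b5 := bound (L 5) 18 (by norm_num) (low (eighteen (x := L 5) ha hg hga))
  have b6 := bound (L 6) 18 (by norm_num) (low (eighteen (x := L 6) hbP hg'2 hg'b))
  have b7 := bound (L 7) 9 (by norm_num) (low (nine (x := L 7) hab))
  have b8 := bound (L 8) 6 (by norm_num) (low (hag ▸ self (L 8)))
  have b9 := bound (L 9) 6 (by norm_num) (low (hbg ▸ self (L 9)))
  omega

/-- The case without fixed elements: local contradiction at an element of order three. -/
theorem no_free (hN : Nat.card (Subgroup.normalizer ((P : Subgroup G) : Set G)) = 36)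
    {Q : Subgroup G} (hQN : Q ≤ Subgroup.normalizer ((P : Subgroup G) : Set G)) (hQ : Nat.card Q = 4)
    {w : G} (hw : ∀ x ∈ (P : Subgroup G), w * x * w⁻¹ = x⁻¹)
    (hfree : ∀ g ∈ Q, orderOf g = 2 → ∀ a ∈ (P : Subgroup G), g * a * g⁻¹ = a → a = 1)
    {x : G} (hxP : x ∈ (P : Subgroup G)) (hx : orderOf x = 3)
    (h2 : 2 ∣ Nat.card (Subgroup.centralizer ({x} : Set G))) : False := by
  haveI : Fact (Nat.Prime 2) := ⟨Nat.prime_two⟩
  haveI : Fact (Nat.Prime 3) := ⟨by norm_num⟩
  set N := Subgroup.normalizer ((P : Subgroup G) : Set G)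
  set C := Subgroup.centralizer ({x} : Set G) with hC
  have hx1 : x ≠ 1 := fun h => by rw [h, orderOf_one] at hx; omega
  have hPC : (P : Subgroup G) ≤ C := fun c hc => Subgroup.mem_centralizer_singleton_iff.2 (P_comm hG hc hxP)
  have h144 : Nat.card C ∣ 144 := by
    refine card_dvd_sixteen_mul hG (fun y hy h => ?_) (fun y hy h => ?_)
    · have := Subgroup.orderOf_dvd_natCard _ (Subgroup.mem_centralizer_singleton_iff.2
        (Subgroup.mem_centralizer_singleton_iff.1 hy).symm : x ∈ Subgroup.centralizer ({y} : Set G))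
      rw [centralizer_five hG h, hx] at this; norm_num at this
    · have := Subgroup.orderOf_dvd_natCard _ (Subgroup.mem_centralizer_singleton_iff.2
        (Subgroup.mem_centralizer_singleton_iff.1 hy).symm : x ∈ Subgroup.centralizer ({y} : Set G))
      rw [centralizer_eleven hG h, hx] at this; norm_num at this
  -- the centraliser meets the normaliser in the Sylow subgroup
  have hCN : Nat.card ↥(C ⊓ N) = 9 := by
    have hle : (P : Subgroup G) ≤ C ⊓ N := le_inf hPC Subgroup.le_normalizer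
    obtain ⟨k, hk⟩ := card_P hG (P := P) ▸ Subgroup.card_dvd_of_le hle
    have hk4 : k ∣ 4 := Nat.dvd_of_mul_dvd_mul_left (by norm_num : 0 < 9)
      (hk ▸ (show (9 : ℕ) * 4 = Nat.card N from hN.symm) ▸ Subgroup.card_dvd_of_le (inf_le_right : C ⊓ N ≤ N))
    have hodd : ¬ 2 ∣ k := by
      intro h
      obtain ⟨u, hu⟩ := exists_prime_orderOf_dvd_card' 2 (show 2 ∣ Nat.card ↥(C ⊓ N) by
        rw [hk]; exact dvd_mul_of_dvd_right h 9)
      -- a conjugate of the involution lies in the four subgroup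
      have hQ2 : Nat.card (Q.subgroupOf N) = 2 ^ (Nat.card N).factorization 2 := by
        rw [Nat.card_congr (Subgroup.subgroupOfEquivOfLe hQN).toEquiv, hQ, hN, show (36 : ℕ) = 2 ^ 2 * 9 by norm_num,
          Nat.factorization_mul (by norm_num) (by norm_num), Finsupp.add_apply, Nat.prime_two.factorization_pow,
          Finsupp.single_eq_same, Nat.factorization_eq_zero_of_not_dvd (by norm_num : ¬ 2 ∣ 9)]
        norm_num
      let S : Sylow 2 N := Sylow.ofCard _ hQ2
      have hup : IsPGroup 2 (Subgroup.zpowers (⟨(u : G), u.2.2⟩ : N)) :=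
        IsPGroup.of_card (n := 1) (by rw [Nat.card_zpowers, Subgroup.orderOf_mk, Subgroup.orderOf_coe, hu, pow_one])
      obtain ⟨T, hT⟩ := hup.exists_le_sylow
      obtain ⟨n, hn⟩ := MulAction.exists_smul_eq N T S
      have hgQ : (n : G) * u * (n : G)⁻¹ ∈ Q := by
        have h1 : (MulAut.conj n) (⟨(u : G), u.2.2⟩ : N) ∈ (S : Subgroup N) := by
          rw [← hn, Sylow.coe_subgroup_smul]
          exact ⟨_, hT (Subgroup.mem_zpowers _), rfl⟩
        exact h1
      have hfix := hfree _ hgQ (by rw [← hu, ← Subgroup.orderOf_coe]; exact MulEquiv.orderOf_eq (MulAut.conj (n : G)) _)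
        ((n : G) * x * (n : G)⁻¹) ((Subgroup.mem_normalizer_iff.1 n.2 x).1 hxP) (by
          have hcu := Subgroup.mem_centralizer_singleton_iff.1 u.2.1
          rw [show (n : G) * u * (n : G)⁻¹ * ((n : G) * x * (n : G)⁻¹) * ((n : G) * u * (n : G)⁻¹)⁻¹ =
            (n : G) * ((u : G) * x * (u : G)⁻¹) * (n : G)⁻¹ by group, hcu, mul_inv_cancel_right])
      exact hx1 (conj_eq_one_iff.1 hfix)
    have := Nat.le_of_dvd (by norm_num) hk4
    interval_cases k <;> omega
  obtain ⟨n, hn1, hn⟩ := sylow_mod hPC P.2 (fun h => by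
    have h' : 3 * 9 ∣ 7920 := (card_P hG (P := P) ▸ h).trans (hG ▸ Subgroup.card_subgroup_dvd_card C)
    norm_num at h')
  have hn' : n * 9 = Nat.card C := by rw [← hn, ← hCN]
  obtain ⟨m, hm⟩ := h2
  have hn16 : n ∣ 16 := Nat.dvd_of_mul_dvd_mul_right (by norm_num : 0 < 9) (hn'.symm ▸ h144)
  have hcases : Nat.card C = 36 ∨ Nat.card C = 144 := by
    have := Nat.le_of_dvd (by norm_num) hn16
    interval_cases n <;> omega
  have hwx : w * x * w⁻¹ = x⁻¹ := hw x hxP
  have hNx := card_normalizer_inverted (H := ⊤) hx (Subgroup.mem_top w) hwx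
  simp only [top_inf_eq] at hNx
  set Nx := Subgroup.normalizer (Subgroup.zpowers x : Set G) with hNx'
  rcases hcases with h36 | h144'
  swap
  · have := Subgroup.card_subgroup_dvd_card Nx
    rw [hNx, h144', hG] at this
    norm_num at this
  rw [h36] at hNx
  obtain ⟨W', hW'⟩ := Sylow.exists_subgroup_card_pow_prime 2 (G := Nx) (n := 3) (by rw [hNx]; norm_num)
  let W := W'.map Nx.subtype
  have hW : Nat.card W = 8 := (Subgroup.card_map_of_injective Nx.subtype_injective).trans hW'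
  have hWN : W ≤ Nx := Subgroup.map_subtype_le _
  have hCle : C ≤ Nx := fun c hc => mem_normalizer_of_map fun z hz => by
    obtain ⟨k, rfl⟩ := Subgroup.mem_zpowers_iff.1 hz
    rw [show c * x ^ k * c⁻¹ = x ^ k from mul_inv_eq_iff_eq_mul.2
      ((show Commute c x from Subgroup.mem_centralizer_singleton_iff.1 hc).zpow_right k).eq]
    exact Subgroup.zpow_mem _ (Subgroup.mem_zpowers x) k
  obtain ⟨v, hvW, hvC⟩ : ∃ v ∈ W, v ∉ C := by
    by_contra h
    push_neg at h
    have := Subgroup.card_dvd_of_le h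
    rw [hW, h36] at this; norm_num at this
  have hvx : v * x * v⁻¹ = x⁻¹ := by
    classical
    obtain ⟨i, hi, he⟩ := Finset.mem_image.1 (mem_zpowers_iff_mem_range_orderOf.1
      ((Subgroup.mem_normalizer_iff.1 (hWN hvW) x).1 (Subgroup.mem_zpowers x)))
    rw [Finset.mem_range, hx] at hi
    interval_cases i
    · rw [pow_zero, eq_comm, conj_eq_one_iff] at he; exact absurd he hx1
    · exact absurd (Subgroup.mem_centralizer_singleton_iff.2 (comm_of_conj (he.symm.trans (pow_one x)))) hvC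
    · rw [← he]
      exact eq_inv_of_mul_eq_one_left (by rw [← pow_succ]; exact orderOf_dvd_iff_pow_eq_one.1 (dvd_of_eq hx))
  set D := W ⊓ C
  have hvD : ∀ d ∈ D, v * d * v⁻¹ ∈ D := fun d hd => ⟨W.mul_mem (W.mul_mem hvW hd.1) (W.inv_mem hvW), by
    have hc := Subgroup.mem_centralizer_singleton_iff.1 hd.2
    refine Subgroup.mem_centralizer_singleton_iff.2 (comm_of_conj ?_)
    have hvi : v⁻¹ * x * v = x⁻¹ := by
      calc v⁻¹ * x * v = (v⁻¹ * (v * x * v⁻¹) * v)⁻¹ := by rw [hvx]; group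
        _ = x⁻¹ := by group
    calc v * d * v⁻¹ * x * (v * d * v⁻¹)⁻¹ = v * (d * (v⁻¹ * x * v) * d⁻¹) * v⁻¹ := by group
      _ = v * (d * x⁻¹ * d⁻¹) * v⁻¹ := by rw [hvi]
      _ = v * x⁻¹ * v⁻¹ := by rw [← conj_inv, hc, mul_inv_cancel_right]
      _ = x := by rw [← conj_inv, hvx, inv_inv]⟩
  have hv2 : v * v ∈ D := ⟨W.mul_mem hvW hvW, Subgroup.mem_centralizer_singleton_iff.2 (comm_of_conj (by
    rw [show v * v * x * (v * v)⁻¹ = v * (v * x * v⁻¹) * v⁻¹ by group, hvx, ← conj_inv, hvx, inv_inv]))⟩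
  have hD : Nat.card D = 4 := by
    have h1 : Nat.card D ∣ 4 := by
      have a := hW ▸ Subgroup.card_dvd_of_le (inf_le_left : D ≤ W)
      have b := h36 ▸ Subgroup.card_dvd_of_le (inf_le_right : D ≤ C)
      have := Nat.dvd_gcd a b
      norm_num at this
      exact this
    have h3 : 4 ≤ Nat.card D := by
      have h := card_normalizer_inverted (H := W) hx hvW hvx
      rw [inf_eq_left.2 hWN, hW] at h
      have h' : 8 = 2 * Nat.card D := h
      omega
    exact le_antisymm (Nat.le_of_dvd (by norm_num) h1) h3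
  have hDc : ∀ c ∈ D, ∀ d ∈ D, c * d = d * c := fun c hc d hd =>
    congrArg Subtype.val (IsPGroup.commutative_of_card_eq_prime_sq (G := D) (p := 2) (by rw [hD]; rfl) ⟨c, hc⟩ ⟨d, hd⟩)
  -- an involution of the centraliser fixed by the inverting element
  obtain ⟨d, hdD, hd1, hdv⟩ : ∃ d ∈ D, d ≠ 1 ∧ v * d * v⁻¹ = d := by
    obtain ⟨d, hd⟩ := exists_prime_orderOf_dvd_card' 2 (show 2 ∣ Nat.card D by rw [hD]; norm_num)
    rw [← Subgroup.orderOf_coe] at hd
    have hd1 : (d : G) ≠ 1 := fun h => by rw [h, orderOf_one] at hd; omega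
    have hdd : (d : G) * d = 1 := by rw [← pow_two, ← hd, pow_orderOf_eq_one]
    have hed := hvD _ d.2
    by_cases heq : v * (d : G) * v⁻¹ = d
    · exact ⟨d, d.2, hd1, heq⟩
    refine ⟨d * (v * (d : G) * v⁻¹), mul_mem d.2 hed, fun h => heq ?_, ?_⟩
    · exact (eq_inv_of_mul_eq_one_right h).trans (inv_eq_of_mul_eq_one_left hdd)
    · rw [show v * ((d : G) * (v * (d : G) * v⁻¹)) * v⁻¹ =
        (v * (d : G) * v⁻¹) * ((v * v) * (d : G) * (v * v)⁻¹) by group, hDc _ hv2 _ d.2, mul_inv_cancel_right,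
        hDc _ hed _ d.2]
  obtain ⟨u, huD, huo, huv⟩ : ∃ u ∈ D, orderOf u = 2 ∧ v * u * v⁻¹ = u := by
    have h4 : orderOf d ∣ 4 := hD ▸ Subgroup.orderOf_dvd_natCard D hdD
    have hne : orderOf d ≠ 1 := fun h => hd1 (orderOf_eq_one_iff.1 h)
    have := Nat.le_of_dvd (by norm_num) h4
    by_cases h2' : orderOf d = 2
    · exact ⟨d, hdD, h2', hdv⟩
    refine ⟨d ^ 2, pow_mem hdD 2, ?_, by rw [← conj_pow, hdv]⟩
    rw [orderOf_pow' d two_ne_zero]
    interval_cases orderOf d <;> first | omega | (norm_num at h4; done) | norm_num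
  set M := Subgroup.centralizer ({u} : Set G)
  have hM : Nat.card M = 48 := card_centralizer_involution hG huo
  have hxM : x ∈ M := Subgroup.mem_centralizer_singleton_iff.2 (Subgroup.mem_centralizer_singleton_iff.1 huD.2).symm
  have hvM : v ∈ M := Subgroup.mem_centralizer_singleton_iff.2 (comm_of_conj huv)
  have h12 : Nat.card ↥(M ⊓ C) = 12 := by
    have hd : Nat.card ↥(M ⊓ C) ∣ 12 := by
      have a := hM ▸ Subgroup.card_dvd_of_le (inf_le_left : M ⊓ C ≤ M)
      have b := h36 ▸ Subgroup.card_dvd_of_le (inf_le_right : M ⊓ C ≤ C)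
      have := Nat.dvd_gcd a b
      norm_num at this
      exact this
    have a : 4 ∣ Nat.card ↥(M ⊓ C) := hD ▸ Subgroup.card_dvd_of_le (fun c hc =>
      ⟨Subgroup.mem_centralizer_singleton_iff.2 (hDc c hc u huD), hc.2⟩)
    have b : 3 ∣ Nat.card ↥(M ⊓ C) := hx ▸ Subgroup.orderOf_dvd_natCard (M ⊓ C)
      (⟨hxM, hPC hxP⟩ : x ∈ M ⊓ C)
    exact Nat.dvd_antisymm hd (Nat.Coprime.mul_dvd_of_dvd_of_dvd (by norm_num : Nat.Coprime 4 3) a b)
  have h24 := card_normalizer_inverted (H := M) hx hvM hvx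
  rw [h12] at h24
  obtain ⟨n', hn'1, hn'2⟩ := sylow_mod (T := Subgroup.zpowers x) (Subgroup.zpowers_le.2 hxM)
    (IsPGroup.of_card (n := 1) (by rw [Nat.card_zpowers, hx, pow_one]))
    (by rw [Nat.card_zpowers, hx, hM]; norm_num)
  rw [h24, hM] at hn'2
  omega

/-- The normaliser of a Sylow subgroup for three has order 144. -/
theorem card_normalizer_three :
    Nat.card (Subgroup.normalizer ((P : Subgroup G) : Set G)) = 144 := by
  haveI : Fact (Nat.Prime 3) := ⟨by norm_num⟩
  haveI : Fact (Nat.Prime 2) := ⟨Nat.prime_two⟩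
  obtain ⟨-, h⟩ := normalizer_facts hG (P := P)
  simp only [Finset.mem_insert, Finset.mem_singleton] at h
  rcases h with hN | hN
  swap
  · exact hN
  exfalso
  obtain ⟨Q, hQN, hQ, hdisj, w, hwQ, hww, hw⟩ := exists_inverting hG hN
  by_cases hfree : ∀ g ∈ Q, orderOf g = 2 → ∀ a ∈ (P : Subgroup G), g * a * g⁻¹ = a → a = 1
  swap
  · push_neg at hfree
    obtain ⟨g, hg, hgo, a, ha, hga, ha1⟩ := hfree
    exact no_fixed hG hN hQN hQ hdisj hwQ hww hw hg hgo ha ha1 hga
  obtain ⟨t, ht⟩ : ∃ t : G, orderOf t = 2 := exists_prime_orderOf_dvd_card' 2 (by rw [hG]; norm_num)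
  obtain ⟨x, hx⟩ := exists_prime_orderOf_dvd_card' 3 (show 3 ∣ Nat.card (Subgroup.centralizer ({t} : Set G)) by
    rw [card_centralizer_involution hG ht]; norm_num)
  rw [← Subgroup.orderOf_coe] at hx
  obtain ⟨T, hT⟩ := (IsPGroup.of_card (n := 1) (by rw [Nat.card_zpowers, hx, pow_one]) :
    IsPGroup 3 (Subgroup.zpowers (x : G))).exists_le_sylow
  obtain ⟨c, hc⟩ := MulAction.exists_smul_eq G T P
  have hxP : c * (x : G) * c⁻¹ ∈ (P : Subgroup G) := by
    rw [← hc, Sylow.coe_subgroup_smul]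
    exact ⟨x, hT (Subgroup.mem_zpowers _), rfl⟩
  refine no_free hG hN hQN hQ hw hfree hxP ((MulEquiv.orderOf_eq (MulAut.conj c) _).trans hx) ?_
  rw [card_centralizer_conj, ← ht]
  exact Subgroup.orderOf_dvd_natCard _ (Subgroup.mem_centralizer_singleton_iff.2
    (Subgroup.mem_centralizer_singleton_iff.1 x.2).symm)

end Cfsg.Agent.M11Local
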